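import Mathlib
import Cfsg.Agent.S2129
import Cfsg.Agent.S2130
import Cfsg.Agent.S1102
import Cfsg.Agent.Prune
set_option linter.all false
prune_inst 0x7f00000000000000000000000000000000000000000000000000000000000000000000000000000000000000000000000000000000000000000000000000000000000000000000000000000000000000003fffffffffffffffffffffffffffbeffbdffffffff
open scoped Cfsg.Agent.FastGrp

/-!
# Field automorphisms of `³D₄(q)` and `²E₆(q)` of the full order

* `exists_twD4` : `³D₄(q)`, `q = p^f`, has an automorphism of order divisible by `3 f`;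
* `exists_twE6` : `²E₆(q)`, `q = p^f`, has an automorphism of order divisible by `2 f`.
-/

set_option autoImplicit false
set_option maxHeartbeats 400000

namespace Cfsg.Agent.H565.TwField

universe u

/-- The Frobenius automorphism generates: a finite field with `p ^ n` elements has an automorphism of order `n`. -/
theorem exists_ringAut {K : Type u} [Field K] [Fintype K] (p n : ℕ) [Fact p.Prime] [CharP K p]
    (hK : Fintype.card K = p ^ n) : ∃ τ : K ≃+* K, orderOf τ = n := by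
  let _ : Algebra (ZMod p) K := ZMod.algebra K p
  let e : (K ≃ₐ[ZMod p] K) →* (K ≃+* K) :=
    { toFun := fun τ => τ.toRingEquiv
      map_one' := rfl
      map_mul' := fun _ _ => rfl }
  have he : Function.Injective e := by
    intro a b h
    ext x
    exact congrArg (fun f : K ≃+* K => f x) h
  have h1 : Nat.card (K ≃ₐ[ZMod p] K) = n := by
    rw [IsGalois.card_aut_eq_finrank]
    have h1 := Module.card_eq_pow_finrank (K := ZMod p) (V := K)
    rw [hK, ZMod.card] at h1
    exact (Nat.pow_right_injective (Fact.out : p.Prime).two_le h1).symm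
  have hc : IsCyclic (K ≃ₐ[ZMod p] K) := inferInstance
  obtain ⟨g, hg⟩ := hc.exists_generator
  refine ⟨e g, ?_⟩
  rw [orderOf_injective e he, ← h1]
  exact orderOf_eq_card_of_forall_mem_zpowers hg

section D4

open Cfsg.Lie Cfsg.Agent.ChevalleyStructure Cfsg.Agent.KFacts.TwDFour.Out Cfsg.Agent.H69.OutTwD4

variable {K : Type u} [Field K] [Fintype K] {q : ℕ} {φ : K →+* K} (hφ : ∀ x, φ x = x ^ q)
  (hK : Fintype.card K = q ^ 3) {τ : K ≃+* K}

theorem dtau_pow {β : MulAut ↥(twistedD4 K q)} (S : DTau hφ hK β τ) (k : ℕ) : DTau hφ hK (β ^ k) (τ ^ k) := by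
  induction k with
  | zero => rw [pow_zero, pow_zero]; exact DTau.one hφ hK
  | succ k ih => rw [pow_succ, pow_succ]; exact ih.mul hφ hK S

theorem orderOf_dvd_of_dtau {β : MulAut ↥(twistedD4 K q)} (S : DTau hφ hK β τ) : orderOf τ ∣ orderOf β := by
  rw [orderOf_dvd_iff_pow_eq_one]
  have h1 := dtau_pow hφ hK S (orderOf β)
  rw [pow_orderOf_eq_one] at h1
  exact h1.unique hφ hK (DTau.one hφ hK)

theorem exists_twD4 (p f : ℕ) [Fact p.Prime] [CharP K p] (hK : Fintype.card K = p ^ (3 * f)) (hf : 1 ≤ f) :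
    ∃ σ : MulAut ↥(twistedD4 K (p ^ f)), 3 * f ∣ orderOf σ := by
  have hq : IsPrimePow (p ^ f) := (Fact.out : p.Prime).isPrimePow.pow (by omega)
  have hK' : Fintype.card K = (p ^ f) ^ 3 := by rw [hK, ← pow_mul, mul_comm]
  obtain ⟨φ, hφ⟩ := D4Fixed.exists_frob hq hK'
  obtain ⟨τ, hτ⟩ := exists_ringAut p (3 * f) hK
  refine ⟨st (p ^ f) τ, ?_⟩
  rw [← hτ]
  exact orderOf_dvd_of_dtau hφ hK' (dtau_st hφ hK' τ CoxeterMatrix.G₂.toCoxeterSystem p)

end D4

section E6

open Cfsg.Lie Cfsg.Agent.ChevalleyStructure Cfsg.Agent.KFacts.TwESix.Out Cfsg.Agent.KFacts.TwESix.OutTwo Cfsg.Agent.CpAut.RgdTwE6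

variable {K : Type u} [Field K] [Fintype K] {q : ℕ} {φ : K →+* K} (hφ : ∀ x, φ x = x ^ q)
  (hqq : ∀ t : K, (t ^ q) ^ q = t) {τ : K ≃+* K}

theorem orderOf_dvd_of_ftau {β : MulAut ↥(twistedE6 K q)} (S : FTau hφ hqq β τ) : orderOf τ ∣ orderOf β := by
  rw [orderOf_dvd_iff_pow_eq_one]
  have h1 := ftau_pow hφ hqq S (orderOf β)
  rw [pow_orderOf_eq_one] at h1
  exact h1.unique hφ hqq (FTau.one hφ hqq)

theorem exists_twE6 (p f : ℕ) [Fact p.Prime] [CharP K p] (hK : Fintype.card K = p ^ (2 * f)) (hf : 1 ≤ f) :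
    ∃ σ : MulAut ↥(twistedE6 K (p ^ f)), 2 * f ∣ orderOf σ := by
  have hq : IsPrimePow (p ^ f) := (Fact.out : p.Prime).isPrimePow.pow (by omega)
  have hK' : Fintype.card K = (p ^ f) ^ 2 := by rw [hK, ← pow_mul, mul_comm]
  obtain ⟨φ, hφ, hqq⟩ := TwE6Basic.exists_frob hq hK'
  obtain ⟨τ, hτ⟩ := exists_ringAut p (2 * f) hK
  refine ⟨st (p ^ f) τ, ?_⟩
  rw [← hτ]
  have h1 := ntau_st hφ hqq τ CoxeterMatrix.F₄.toCoxeterSystem p
  exact orderOf_dvd_of_ftau hφ hqq ⟨h1.diag, fun i t ht => congrArg Subtype.val (h1.char i t ht)⟩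

end E6

end Cfsg.Agent.H565.TwField
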