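import Mathlib
import Cfsg.Agent.H795.TorSub
import Cfsg.Agent.ChevalleyStructure.TwF4.Fix
import Cfsg.Agent.ChevalleyStructure.TwF4.Torus
import Cfsg.Agent.ChevalleyStructure.TwF4.TwistedFix
import Cfsg.Agent.H42.Tw.F4Three
import Cfsg.Agent.S1092
import Cfsg.Agent.S0126
import Cfsg.Agent.H42.Tw.AbF4
import Cfsg.Agent.H795.Roots
import Cfsg.Agent.KFacts.TwF4.Torus
import Cfsg.Agent.Lib.ListFast
import Cfsg.Agent.H167.OP.MinD2
import Cfsg.Agent.Lib.CoprimeStab
import Cfsg.Agent.Lib.LocalCore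
import Cfsg.Agent.Lib.Cores
import Cfsg.Agent.Lib.HallHigman
import Cfsg.Prelude.Def_CaseTheorems
import Cfsg.Agent.FastGrp
import Cfsg.Agent.Prune
set_option linter.all false

section
prune_inst 0x7ffcfcfb2bf889dfffff7e7ffed0dffc38909fffa6def94bffece1ffabdf230209e5fb850de018ff0ed6e03410b87843f9ffeeffe863dc7ffffd5ff41ffbee0fe5f6350811948c340f300fff83f0778e7f3fffffffffffffffffffffffffffbeffbfffffffff

-- part: H42/Tw/F4Asm
section
prune_inst 0x1000000000000000000000000000000000000000000000000000000000000020011000000200000000000000000000000000040000000008800000000000000000000000000000000000000000000000000000000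
set_option linter.all false
open scoped Cfsg.Agent.FastGrp

-- part: H42/Tw/F4Nor
section
/-!
# Centralisers of subsets of the torus on which no root is trivial
-/

set_option autoImplicit false

namespace Cfsg.Agent.H42.Tw

open CoxeterSystem Cfsg Cfsg.Lie Cfsg.Lie.ChevalleyDatum
open Cfsg.Agent.ChevalleyStructure Cfsg.Agent.ChevalleyStructure.Elts Cfsg.Agent.ChevalleyStructure.CoxeterGeom
  Cfsg.Agent.ChevalleyStructure.CoxeterGeomTypes Cfsg.Agent.ChevalleyStructure.NPerm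
open Cfsg.Agent.Tits.Roots Cfsg.Agent.Tits.Core Cfsg.Agent.Nodes Cfsg.Agent.Nodes.Reps Cfsg.Agent.Nodes.BNOf
  Cfsg.Agent.Nodes.RGDChev Cfsg.Agent.Nodes.Bruhat Cfsg.Agent.Nodes.OppDec
open Cfsg.Agent.KFacts.RgdField Cfsg.Agent.KFacts.RgdChevCoord Cfsg.Agent.BpExc.TorCent Cfsg.Agent.BpExc.TorChev
open Cfsg.Agent.CpAut.RgdFix Cfsg.Agent.CpAut.RgdSub Cfsg.Agent.KFacts.RgdDiag
open Cfsg.Agent.GpExc.Field Cfsg.Agent.BpExc.Tow Cfsg.Agent.BpExc.TowChev
open Cfsg.Agent.H795.SetCent Cfsg.Agent.H795.SetTor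

universe u

variable {D : ChevalleyDatum} {l : ℕ} {M : CoxeterMatrix (Fin l)} (hp : IsType D l M)
  (r : ℕ) [Fact r.Prime] {k : Type u} [Field k] [CharP k r]

include hp r in
/-- **The centraliser of a set of `p`-elements of the torus on which no root is trivial is the torus** (`p` prime to the
order of the Weyl group). -/
theorem mem_TT_of_comm (hk : LocFin k) {p : ℕ} (hpp : p.Prime) (hW : ¬ p ∣ Nat.card M.Group)
    {Z : Set ↥(D.group k)} (hfin : Z.Finite) (hZ : Z ⊆ TT D k) (hZp : ∀ t ∈ Z, ∃ m : ℕ, t ^ p ^ m = 1)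
    (hroot : ∀ s < D.nroots, ∃ t ∈ Z, ch hp (vec D l s) t ≠ 1) {c : ↥(D.group k)} (hc : ∀ t ∈ Z, c * t = t * c) :
    c ∈ TT D k := by

  have hWf := finite_W hp (M.toCoxeterSystem)
  have H := tow (k := k) hp M.toCoxeterSystem hk r
  have hA := chAddL (k := k) hp M.toCoxeterSystem hk r
  have C := coordsL (k := k) hp M.toCoxeterSystem hk r
  have hG := GG_eq_top (k := k) hp M.toCoxeterSystem hk
  have hTL := TL_eq (k := k) hp hk
  have hXL := XL_eq (k := k) hp hk
  have C' : Coords M.toCoxeterSystem hp.isCartan (TL (Tj hp (k := k))) (nc hp k) (XL (Xj hp (k := k))) (xc hp)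
      (ch hp) := by
    rw [hTL, hXL]; exact C
  have hA' : ChAdd M.toCoxeterSystem hp.isCartan (TL (Tj hp (k := k))) (ch (K := k) hp) := by rw [hTL]; exact hA
  have hW2 : ¬ p ^ 2 ∣ Nat.card M.Group := fun h => hW (dvd_trans (dvd_pow_self p two_ne_zero) h)
  obtain ⟨m, hm, t, ht, rfl⟩ := exists_form_MMT H C' hG hA' hfin (by rw [hTL]; exact hZ) hpp hZp hW2
    (tors_of_not_dvd hW) hc
  have hempty : SxZ M.toCoxeterSystem hp.isCartan (ch hp) Z = ∅ := by
    rw [Set.eq_empty_iff_forall_notMem]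
    rintro a ⟨ha, ha1⟩
    obtain ⟨s, hs, rfl⟩ := (isRoot_iff hp M.toCoxeterSystem a).1 ha
    obtain ⟨t, ht, ht1⟩ := hroot s hs
    exact ht1 (ha1 t ht)
  have hm1 : m = 1 := by
    unfold MMZ at hm
    rw [hempty] at hm
    have h1 : RGD.Sup (XL (Xj hp (k := k))) ∅ ≤ ⊥ := RGD.Sup_le fun a ha => absurd ha (Set.notMem_empty a)
    exact Subgroup.mem_bot.1 (h1 hm)
  rw [hm1, one_mul, ← hTL]
  exact ht

end Cfsg.Agent.H42.Tw
end

-- part: H42/Tw/F4Comb
section
/-!
# Linear forms on the root system of type `F₄` over a field of characteristic `≠ 2, 3`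

`EV` : twice the coordinates of the roots with respect to an orthogonal frame of short roots (the roots
27, 28, 29, 44).  `L : ℕ → F` with `2 L s = ∑ j, EV s j * L (e_j)` is given by the vector `v j = L (e_j)`.

* `sum_sq` : if the values on the long roots are `λ` times those on the short roots, `λ² ≠ 2`, then `v · v = 0`;
* `no_root` : if `v · v = 0`, `v ≠ 0` and the numbers of short and long roots in the kernel are equal and divisible
  by 6 then they are zero;
* `no_root_pair` : no root is in the kernel of two linearly independent orthogonal isotropic forms.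
-/

set_option autoImplicit false

namespace Cfsg.Agent.H42.Tw

open Cfsg.Agent.ChevalleyStructure.F4NTab Cfsg.Agent.ChevalleyStructure.TwF4.Fix
open Cfsg.Agent.ChevalleyStructure.TwF4.Bits Cfsg.Agent.ChevalleyStructure.TwF4.Tables
open Cfsg.Agent.ChevalleyStructure.TwF4.Rel

/-- twice the coordinates of the roots -/
def EV : List (List ℤ) := [[0, 0, -2, -2], [0, -2, 0, -2], [-2, 0, 0, -2], [0, 0, 0, -2], [2, 0, 0, -2],
  [0, 2, 0, -2], [0, 0, 2, -2], [-1, -1, -1, -1], [1, -1, -1, -1], [-1, 1, -1, -1], [-1, -1, 1, -1], [1, 1, -1, -1],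
  [1, -1, 1, -1], [-1, 1, 1, -1], [1, 1, 1, -1], [0, -2, -2, 0], [-2, 0, -2, 0], [-2, -2, 0, 0], [0, 0, -2, 0],
  [0, -2, 0, 0], [-2, 0, 0, 0], [2, 0, -2, 0], [2, -2, 0, 0], [0, 2, -2, 0], [0, -2, 2, 0], [-2, 2, 0, 0],
  [-2, 0, 2, 0], [2, 0, 0, 0], [0, 2, 0, 0], [0, 0, 2, 0], [2, 2, 0, 0], [2, 0, 2, 0], [0, 2, 2, 0],
  [-1, -1, -1, 1], [1, -1, -1, 1], [-1, 1, -1, 1], [-1, -1, 1, 1], [1, 1, -1, 1], [1, -1, 1, 1], [-1, 1, 1, 1],
  [1, 1, 1, 1], [0, 0, -2, 2], [0, -2, 0, 2], [-2, 0, 0, 2], [0, 0, 0, 2], [2, 0, 0, 2], [0, 2, 0, 2], [0, 0, 2, 2]]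

/-- the entries of `EV` -/
def ev (s j : ℕ) : ℤ := (EV.getD s []).getD j 0

/-- the entries for the positions -/
def evp (n j : ℕ) : ℤ := if n < 4 then 0 else ev (n - 4) j

theorem ev_ca : ((List.range 48).all fun s => (List.range 4).all fun i =>
    2 * ca i s == ev s 0 * ca i 27 + ev s 1 * ca i 28 + ev s 2 * ca i 29 + ev s 3 * ca i 44) = true := by
  decide +kernel

theorem two_ca {s i : ℕ} (hs : s < 48) (hi : i < 4) :
    2 * ca i s = ev s 0 * ca i 27 + ev s 1 * ca i 28 + ev s 2 * ca i 29 + ev s 3 * ca i 44 := by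
  have h := ev_ca
  rw [List.all_eq_true] at h
  have h1 := h s (List.mem_range.2 hs)
  rw [List.all_eq_true] at h1
  exact beq_iff_eq.1 (h1 i (List.mem_range.2 hi))

theorem gram_io : ∀ j k : Fin 4, ∑ i : Fin 26, evp (nthN ioN i.val) j.val * evp (nthN ioN i.val) k.val =
    if j = k then 24 else 0 := by decide +kernel

theorem gram_ro : ∀ j k : Fin 4, ∑ i : Fin 26, evp (nthN roN i.val) j.val * evp (nthN roN i.val) k.val =
    if j = k then 48 else 0 := by decide +kernel

/-! ### the triple product -/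

/-- the triple product of the vectors `a`, `b`, `c` -/
def nu (a b c : ℤ × ℤ × ℤ × ℤ) : ℤ × ℤ × ℤ × ℤ :=
  let p12 := a.2.1 * b.2.2.1 - a.2.2.1 * b.2.1
  let p13 := a.2.1 * b.2.2.2 - a.2.2.2 * b.2.1
  let p23 := a.2.2.1 * b.2.2.2 - a.2.2.2 * b.2.2.1
  let p02 := a.1 * b.2.2.1 - a.2.2.1 * b.1
  let p03 := a.1 * b.2.2.2 - a.2.2.2 * b.1
  let p01 := a.1 * b.2.1 - a.2.1 * b.1
  (p12 * c.2.2.2 - p13 * c.2.2.1 + p23 * c.2.1, -(p02 * c.2.2.2 - p03 * c.2.2.1 + p23 * c.1),
    p01 * c.2.2.2 - p03 * c.2.1 + p13 * c.1, -(p01 * c.2.2.1 - p02 * c.2.1 + p12 * c.1))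

/-- its norm -/
def nn (a b c : ℤ × ℤ × ℤ × ℤ) : ℤ :=
  let n := nu a b c
  n.1 * n.1 + n.2.1 * n.2.1 + n.2.2.1 * n.2.2.1 + n.2.2.2 * n.2.2.2

/-- the vector of a position -/
def vp (n : ℕ) : ℤ × ℤ × ℤ × ℤ := (evp n 0, evp n 1, evp n 2, evp n 3)

/-- the vectors of the positions of `ioN` -/
def IOV : List (ℤ × ℤ × ℤ × ℤ) :=
  [(0, 0, 0, -2), (-1, -1, -1, -1), (1, -1, -1, -1), (-1, 1, -1, -1), (-1, -1, 1, -1), (1, 1, -1, -1), (1, -1, 1,
  -1), (-1, 1, 1, -1), (1, 1, 1, -1), (0, 0, -2, 0), (0, -2, 0, 0), (-2, 0, 0, 0), (0, 0, 0, 0), (0, 0, 0, 0), (2,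
  0, 0, 0), (0, 2, 0, 0), (0, 0, 2, 0), (-1, -1, -1, 1), (1, -1, -1, 1), (-1, 1, -1, 1), (-1, -1, 1, 1), (1, 1, -1,
  1), (1, -1, 1, 1), (-1, 1, 1, 1), (1, 1, 1, 1), (0, 0, 0, 2)]

/-- the vectors of the positions of `roN` -/
def ROV : List (ℤ × ℤ × ℤ × ℤ) :=
  [(0, 0, -2, -2), (0, -2, 0, -2), (-2, 0, 0, -2), (2, 0, 0, -2), (0, -2, -2, 0), (0, 2, 0, -2), (-2, 0, -2, 0), (2,
  0, -2, 0), (0, 2, -2, 0), (0, 0, 2, -2), (-2, -2, 0, 0), (2, -2, 0, 0), (0, 0, 0, 0), (0, 0, 0, 0), (-2, 2, 0, 0),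
  (2, 2, 0, 0), (0, 0, -2, 2), (0, -2, 2, 0), (-2, 0, 2, 0), (2, 0, 2, 0), (0, -2, 0, 2), (0, 2, 2, 0), (-2, 0, 0,
  2), (2, 0, 0, 2), (0, 2, 0, 2), (0, 0, 2, 2)]

theorem IOV_eq : ((List.range 26).map fun i => vp (nthN ioN i)) = IOV := by decide +kernel
theorem ROV_eq : ((List.range 26).map fun i => vp (nthN roN i)) = ROV := by decide +kernel

/-- the check for a pair -/
def chkP (X : List (ℤ × ℤ × ℤ × ℤ)) (a b : ℤ × ℤ × ℤ × ℤ) : Bool :=
  (a == (0, 0, 0, 0)) || (b == (0, 0, 0, 0)) ||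
    ((X.all fun c => nn a b c == 0 || (384 : ℤ) % nn a b c == 0) && decide ((X.countP fun c => nn a b c == 0) ≤ 6))

def chkA (X Y : List (ℤ × ℤ × ℤ × ℤ)) : Bool := X.all fun a => Y.all fun b => chkP X a b

private def dt (a b : ℤ × ℤ × ℤ × ℤ) : ℤ := a.1 * b.1 + a.2.1 * b.2.1 + a.2.2.1 * b.2.2.1 + a.2.2.2 * b.2.2.2

private def gr (p q r x y z : ℤ) : ℤ := p * q * z + 2 * r * x * y - p * y * y - q * x * x - z * r * r

private theorem nn_eq (a b c : ℤ × ℤ × ℤ × ℤ) : nn a b c = gr (dt a a) (dt b b) (dt a b) (dt a c) (dt b c) (dt c c) := by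
  simp only [nn, nu, gr, dt]
  ring

private noncomputable def fN (v : ℕ) (k : ℕ → Bool) : Bool := Nat.rec (k 0) (fun n _ => k (Nat.succ n)) v

private noncomputable def fI (v : ℤ) (k : ℤ → Bool) : Bool :=
  Int.rec (fun n => fN n fun m => k (Int.ofNat m)) (fun n => fN n fun m => k (Int.negSucc m)) v

private theorem fI_eq (v : ℤ) (k : ℤ → Bool) : fI v k = k v := by
  rcases v with (_ | n) | (_ | n) <;> rfl

private def t1 (p q r x y z : ℤ) : Bool := gr p q r x y z == 0 || (384 : ℤ) % gr p q r x y z == 0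

private def t2 (p q r x y z : ℤ) : Bool := gr p q r x y z == 0

private noncomputable def chkF (X : List (ℤ × ℤ × ℤ × ℤ)) (a b : ℤ × ℤ × ℤ × ℤ) : Bool :=
  (a == (0, 0, 0, 0)) || (b == (0, 0, 0, 0)) || fI (dt a a) fun p => fI (dt b b) fun q => fI (dt a b) fun r =>
    ((X.all fun c => fI (dt a c) fun x => fI (dt b c) fun y => fI (dt c c) fun z => t1 p q r x y z) &&
      decide ((X.countP fun c => fI (dt a c) fun x => fI (dt b c) fun y => fI (dt c c) fun z => t2 p q r x y z) ≤ 6))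

private theorem chkP_eq : chkP = chkF := by
  funext X a b
  simp only [chkP, chkF, fI_eq, nn_eq, t1, t2]

private noncomputable def _root_.Cfsg.Agent.LsF.f251fb8_0 : {f // @Cfsg.Agent.H42.Tw.dt = f} := ⟨_, by first | (delta Cfsg.Agent.H42.Tw.dt; rewrite [Cfsg.Agent.LsF.iadd_pat, Cfsg.Agent.LsF.imul_pat]; exact rfl) | exact rfl⟩
private noncomputable def _root_.Cfsg.Agent.LsF.f251fb8_1 : {f // @Cfsg.Agent.H42.Tw.gr = f} := ⟨_, by first | (delta Cfsg.Agent.H42.Tw.gr; rewrite [Cfsg.Agent.LsF.iadd_pat, Cfsg.Agent.LsF.imul_pat, Cfsg.Agent.LsF.isub_pat]; exact rfl) | exact rfl⟩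
private noncomputable def _root_.Cfsg.Agent.LsF.f251fb8_2 : {f // @Cfsg.Agent.H42.Tw.t1 = f} := ⟨_, by first | (delta Cfsg.Agent.H42.Tw.t1; rewrite [Cfsg.Agent.LsF.f251fb8_1.2, Cfsg.Agent.LsF.imod_pat, Cfsg.Agent.LsF.ibeq_pat, Cfsg.Agent.LsF.or_eq]; exact rfl) | exact rfl⟩
private noncomputable def _root_.Cfsg.Agent.LsF.f251fb8_3 : {f // @Cfsg.Agent.H42.Tw.t2 = f} := ⟨_, by first | (delta Cfsg.Agent.H42.Tw.t2; rewrite [Cfsg.Agent.LsF.f251fb8_1.2, Cfsg.Agent.LsF.ibeq_pat]; exact rfl) | exact rfl⟩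
private noncomputable def _root_.Cfsg.Agent.LsF.f251fb8_4 : {f // @Cfsg.Agent.H42.Tw.chkF = f} := ⟨_, by first | (delta Cfsg.Agent.H42.Tw.chkF; rewrite [Cfsg.Agent.LsF.f251fb8_0.2, Cfsg.Agent.LsF.f251fb8_2.2, Cfsg.Agent.LsF.f251fb8_3.2, Cfsg.Agent.LsF.instIBEq_pat, Cfsg.Agent.LsF.and_eq, Cfsg.Agent.LsF.or_eq, Cfsg.Agent.LsF.decLe_eq, Cfsg.Agent.LsF.all_eq, Cfsg.Agent.LsF.countP_eq, Cfsg.Agent.LsF.instPBEq_eq, Cfsg.Agent.LsF.decide_eq]; exact rfl) | exact rfl⟩
theorem chkA_io : chkA IOV ROV = true := by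
  delta chkA
  rw [chkP_eq]
  ((try (rewrite [Cfsg.Agent.LsF.f251fb8_4.2, Cfsg.Agent.LsF.all_eq])); decide +kernel)

/-! ### linear forms -/

section

variable {F : Type*} [Field F]

/-- `L` is given by its values on the frame -/
def Lin (L : ℕ → F) : Prop :=
  ∀ s < 48, 2 * L s = (ev s 0 : F) * L 27 + (ev s 1 : F) * L 28 + (ev s 2 : F) * L 29 + (ev s 3 : F) * L 44

/-- the values at the positions -/
def Lp (L : ℕ → F) (n : ℕ) : F := if n < 4 then 0 else L (n - 4)

variable {L : ℕ → F}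

theorem two_Lp (hL : Lin L) {n : ℕ} (hn : n < 52) :
    2 * Lp L n = (evp n 0 : F) * L 27 + (evp n 1 : F) * L 28 + (evp n 2 : F) * L 29 + (evp n 3 : F) * L 44 := by
  unfold Lp evp
  by_cases h : n < 4
  · simp [h]
  · simp only [h, if_false]
    exact hL (n - 4) (by omega)

/-- the frame values -/
def fv (L : ℕ → F) : Fin 4 → F := ![L 27, L 28, L 29, L 44]

theorem two_Lp' (hL : Lin L) {n : ℕ} (hn : n < 52) : 2 * Lp L n = ∑ j : Fin 4, (evp n j.val : F) * fv L j := by
  rw [two_Lp hL hn, Fin.sum_univ_four]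
  rfl

theorem sum_gen (a : Fin 26 → ℕ) (ha : ∀ i, a i < 52) (hL : Lin L) (g : ℤ)
    (hg : ∀ j k : Fin 4, ∑ i : Fin 26, evp (a i) j.val * evp (a i) k.val = if j = k then g else 0) :
    ∑ i : Fin 26, (2 * Lp L (a i)) ^ 2 = (g : F) * ∑ j, fv L j ^ 2 := by
  have h1 : ∀ i : Fin 26, (2 * Lp L (a i)) ^ 2 =
      ∑ j : Fin 4, ∑ k : Fin 4, ((evp (a i) j.val * evp (a i) k.val : ℤ) : F) * (fv L j * fv L k) := by
    intro i
    rw [two_Lp' hL (ha i), pow_two, Finset.sum_mul_sum]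
    refine Finset.sum_congr rfl fun j _ => Finset.sum_congr rfl fun k _ => ?_
    push_cast
    ring
  rw [Finset.sum_congr rfl fun i _ => h1 i, Finset.sum_comm, Finset.mul_sum]
  refine Finset.sum_congr rfl fun j _ => ?_
  rw [Finset.sum_comm, Finset.sum_eq_single j]
  · rw [← Finset.sum_mul, ← Int.cast_sum, hg, if_pos rfl, pow_two]
  · intro k _ hk
    rw [← Finset.sum_mul, ← Int.cast_sum, hg, if_neg (Ne.symm hk), Int.cast_zero, zero_mul]
  · intro h
    exact absurd (Finset.mem_univ _) h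

theorem ioN_lt (i : Fin 26) : nthN ioN i.val < 52 := by
  have : ∀ i : Fin 26, nthN ioN i.val < 52 := by decide
  exact this i

theorem roN_lt (i : Fin 26) : nthN roN i.val < 52 := by
  have : ∀ i : Fin 26, nthN roN i.val < 52 := by decide
  exact this i

/-- the multiset relation forces `v · v = 0` -/
theorem sum_sq (h2 : (2 : F) ≠ 0) (h3 : (3 : F) ≠ 0) (hL : Lin L) {lam : F} (hlam : lam ^ 2 ≠ 2)
    (h : Finset.univ.val.map (fun i : Fin 26 => Lp L (nthN roN i.val)) =
      Finset.univ.val.map fun i : Fin 26 => lam * Lp L (nthN ioN i.val)) : ∑ j, fv L j ^ 2 = 0 := by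
  have h1 := congrArg (fun M : Multiset F => (M.map fun x => (2 * x) ^ 2).sum) h
  simp only [Multiset.map_map, Function.comp_def] at h1
  change ∑ i : Fin 26, (2 * Lp L (nthN roN i.val)) ^ 2 = ∑ i : Fin 26, (2 * (lam * Lp L (nthN ioN i.val))) ^ 2 at h1
  have e1 := sum_gen _ roN_lt hL 48 gram_ro
  have e2 := sum_gen _ ioN_lt hL 24 gram_io
  have e3 : ∑ i : Fin 26, (2 * (lam * Lp L (nthN ioN i.val))) ^ 2 =
      lam ^ 2 * ∑ i : Fin 26, (2 * Lp L (nthN ioN i.val)) ^ 2 := by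
    rw [Finset.mul_sum]
    exact Finset.sum_congr rfl fun i _ => by ring
  rw [e1, e3, e2] at h1
  push_cast at h1
  have h4 : (2 - lam ^ 2) * (2 ^ 3 * 3) * ∑ j, fv L j ^ 2 = 0 := by linear_combination h1
  rcases mul_eq_zero.1 h4 with h5 | h5
  · exfalso
    rcases mul_eq_zero.1 h5 with h6 | h6
    · exact hlam (sub_eq_zero.1 h6).symm
    · rcases mul_eq_zero.1 h6 with h7 | h7
      · exact pow_ne_zero 3 h2 h7
      · exact h3 h7
  · exact h5

/-- the product with an integral vector -/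
def dp (a : ℤ × ℤ × ℤ × ℤ) (L : ℕ → F) : F :=
  (a.1 : F) * L 27 + (a.2.1 : F) * L 28 + (a.2.2.1 : F) * L 29 + (a.2.2.2 : F) * L 44

theorem two_Lp_dp (hL : Lin L) {n : ℕ} (hn : n < 52) : 2 * Lp L n = dp (vp n) L := two_Lp hL hn

theorem nn_eq_zero {a b c : ℤ × ℤ × ℤ × ℤ} (ha : dp a L = 0) (hb : dp b L = 0) (hc : dp c L = 0)
    (hv : ∑ j, fv L j ^ 2 = 0) (hne : ∃ j, fv L j ≠ 0) : ((nn a b c : ℤ) : F) = 0 := by
  obtain ⟨a0, a1, a2, a3⟩ := a
  obtain ⟨b0, b1, b2, b3⟩ := b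
  obtain ⟨c0, c1, c2, c3⟩ := c
  simp only [dp] at ha hb hc
  rw [Fin.sum_univ_four] at hv
  change L 27 ^ 2 + L 28 ^ 2 + L 29 ^ 2 + L 44 ^ 2 = 0 at hv
  have hne' : L 27 ≠ 0 ∨ L 28 ≠ 0 ∨ L 29 ≠ 0 ∨ L 44 ≠ 0 := by
    obtain ⟨j, hj⟩ := hne
    fin_cases j
    · exact Or.inl hj
    · exact Or.inr (Or.inl hj)
    · exact Or.inr (Or.inr (Or.inl hj))
    · exact Or.inr (Or.inr (Or.inr hj))
  simp only [nn, nu]
  push_cast
  generalize L 27 = v0 at *
  generalize L 28 = v1 at *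
  generalize L 29 = v2 at *
  generalize L 44 = v3 at *
  generalize (a0 : F) = A0 at *
  generalize (a1 : F) = A1 at *
  generalize (a2 : F) = A2 at *
  generalize (a3 : F) = A3 at *
  generalize (b0 : F) = B0 at *
  generalize (b1 : F) = B1 at *
  generalize (b2 : F) = B2 at *
  generalize (b3 : F) = B3 at *
  generalize (c0 : F) = C0 at *
  generalize (c1 : F) = C1 at *
  generalize (c2 : F) = C2 at *
  generalize (c3 : F) = C3 at *
  -- the components
  obtain ⟨n0, hn0⟩ : ∃ x, x = (A1 * B2 - A2 * B1) * C3 - (A1 * B3 - A3 * B1) * C2 + (A2 * B3 - A3 * B2) * C1 := ⟨_, rfl⟩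
  obtain ⟨n1, hn1⟩ : ∃ x, x = -((A0 * B2 - A2 * B0) * C3 - (A0 * B3 - A3 * B0) * C2 + (A2 * B3 - A3 * B2) * C0) :=
    ⟨_, rfl⟩
  obtain ⟨n2, hn2⟩ : ∃ x, x = (A0 * B1 - A1 * B0) * C3 - (A0 * B3 - A3 * B0) * C1 + (A1 * B3 - A3 * B1) * C0 := ⟨_, rfl⟩
  obtain ⟨n3, hn3⟩ : ∃ x, x = -((A0 * B1 - A1 * B0) * C2 - (A0 * B2 - A2 * B0) * C1 + (A1 * B2 - A2 * B1) * C0) :=
    ⟨_, rfl⟩
  rw [← hn0, ← hn1, ← hn2, ← hn3]
  have e01 : n0 * v1 = n1 * v0 := by
    rw [hn0, hn1]
    linear_combination (B2 * C3 - B3 * C2) * ha - (A2 * C3 - A3 * C2) * hb + (A2 * B3 - A3 * B2) * hc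
  have e02 : n0 * v2 = n2 * v0 := by
    rw [hn0, hn2]
    linear_combination -(B1 * C3 - B3 * C1) * ha + (A1 * C3 - A3 * C1) * hb - (A1 * B3 - A3 * B1) * hc
  have e03 : n0 * v3 = n3 * v0 := by
    rw [hn0, hn3]
    linear_combination (B1 * C2 - B2 * C1) * ha - (A1 * C2 - A2 * C1) * hb + (A1 * B2 - A2 * B1) * hc
  have e12 : n1 * v2 = n2 * v1 := by
    rw [hn1, hn2]
    linear_combination (B0 * C3 - B3 * C0) * ha - (A0 * C3 - A3 * C0) * hb + (A0 * B3 - A3 * B0) * hc
  have e13 : n1 * v3 = n3 * v1 := by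
    rw [hn1, hn3]
    linear_combination -(B0 * C2 - B2 * C0) * ha + (A0 * C2 - A2 * C0) * hb - (A0 * B2 - A2 * B0) * hc
  have e23 : n2 * v3 = n3 * v2 := by
    rw [hn2, hn3]
    linear_combination (B0 * C1 - B1 * C0) * ha - (A0 * C1 - A1 * C0) * hb + (A0 * B1 - A1 * B0) * hc
  have fin : ∀ v n : F, v ≠ 0 → (n0 * n0 + n1 * n1 + n2 * n2 + n3 * n3) * v ^ 2 = n ^ 2 * (v0 ^ 2 + v1 ^ 2 + v2 ^ 2 + v3 ^ 2) →
      n0 * n0 + n1 * n1 + n2 * n2 + n3 * n3 = 0 := by
    intro v n hv1 h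
    rw [hv, mul_zero] at h
    exact (mul_eq_zero.1 h).resolve_right (pow_ne_zero 2 hv1)
  rcases hne' with h | h | h | h
  · refine fin v0 n0 h ?_
    linear_combination -(n1 * v0 + n0 * v1) * e01 - (n2 * v0 + n0 * v2) * e02 - (n3 * v0 + n0 * v3) * e03
  · refine fin v1 n1 h ?_
    linear_combination (n1 * v0 + n0 * v1) * e01 - (n2 * v1 + n1 * v2) * e12 - (n3 * v1 + n1 * v3) * e13
  · refine fin v2 n2 h ?_
    linear_combination (n2 * v0 + n0 * v2) * e02 + (n2 * v1 + n1 * v2) * e12 - (n3 * v2 + n2 * v3) * e23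
  · refine fin v3 n3 h ?_
    linear_combination (n3 * v0 + n0 * v3) * e03 + (n3 * v1 + n1 * v3) * e13 + (n3 * v2 + n2 * v3) * e23

end

end Cfsg.Agent.H42.Tw
end

-- part: H42/Tw/F4Lin
section
/-!
# No root vanishes

* `card_dvd` : a finite family of elements of a field invariant under multiplication by an element of order `d` has
  a number of nonzero members divisible by `d`;
* `no_root` : `v · v = 0`, `v ≠ 0`, the numbers of short and long roots in the kernel are equal and the number of short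
  roots outside the kernel is divisible by 6: no root is in the kernel;
* `no_root_pair`: no root is in the kernel of two linearly independent orthogonal isotropic forms.
-/

set_option autoImplicit false

namespace Cfsg.Agent.H42.Tw

open Cfsg.Agent.ChevalleyStructure.F4NTab Cfsg.Agent.ChevalleyStructure.TwF4.Fix
open Cfsg.Agent.ChevalleyStructure.TwF4.Bits Cfsg.Agent.ChevalleyStructure.TwF4.Tables
open Cfsg.Agent.ChevalleyStructure.TwF4.Rel

section

variable {F : Type*} [Field F]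

open Classical in
/-- families invariant under multiplication by an element of order `d` -/
theorem card_dvd {n : ℕ} (f : Fin n → F) {u : F} {d : ℕ} (hd : 0 < d) (hu : IsPrimitiveRoot u d)
    (h : Finset.univ.val.map f = Finset.univ.val.map fun i => u * f i) :
    d ∣ (Finset.univ.filter fun i => f i ≠ 0).card := by
  have hu0 : u ≠ 0 := hu.ne_zero hd.ne'
  have hdz : NeZero d := ⟨hd.ne'⟩
  have hk : ∀ x : F, (Finset.univ.filter fun i => f i = u * x).card = (Finset.univ.filter fun i => f i = x).card := by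
    intro x
    have h1 := congrArg (Multiset.count (u * x)) h
    rw [Multiset.count_map, Multiset.count_map] at h1
    have h2 : (Finset.univ.filter fun i => f i = u * x).card =
        (Multiset.filter (fun a => u * x = f a) Finset.univ.val).card := by
      rw [Finset.card_def, Finset.filter_val]
      congr 1
      exact Multiset.filter_congr fun i _ => ⟨Eq.symm, Eq.symm⟩
    have h3 : (Finset.univ.filter fun i => f i = x).card =
        (Multiset.filter (fun a => u * x = u * f a) Finset.univ.val).card := by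
      rw [Finset.card_def, Finset.filter_val]
      congr 1
      exact Multiset.filter_congr fun i _ =>
        ⟨fun e => by rw [e], fun e => (mul_left_cancel₀ hu0 e).symm⟩
    rw [h2, h3, h1]
  have hk' : ∀ (j : ℕ) (x : F), (Finset.univ.filter fun i => f i = u ^ j * x).card =
      (Finset.univ.filter fun i => f i = x).card := by
    intro j x
    induction j with
    | zero => rw [pow_zero, one_mul]
    | succ j ih => rw [pow_succ', mul_assoc, hk, ih]
  rw [Finset.card_eq_sum_card_fiberwise (f := fun i => f i ^ d)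
    (t := (Finset.univ.filter fun i => f i ≠ 0).image fun i => f i ^ d)
    (fun i hi => Finset.mem_image_of_mem _ hi)]
  refine Finset.dvd_sum fun c hc => ?_
  obtain ⟨i0, hi0, rfl⟩ := Finset.mem_image.1 hc
  have hx0 : f i0 ≠ 0 := (Finset.mem_filter.1 hi0).2
  have e : ((Finset.univ.filter fun i => f i ≠ 0).filter fun i => f i ^ d = f i0 ^ d) =
      (Finset.range d).biUnion fun j => Finset.univ.filter fun i => f i = u ^ j * f i0 := by
    ext i
    simp only [Finset.mem_filter, Finset.mem_univ, true_and, Finset.mem_biUnion, Finset.mem_range]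
    constructor
    · rintro ⟨h1, h2⟩
      have h3 : (f i / f i0) ^ d = 1 := by rw [div_pow, h2, div_self (pow_ne_zero d hx0)]
      obtain ⟨j, hj, hj'⟩ := hu.eq_pow_of_pow_eq_one h3
      exact ⟨j, hj, by rw [hj', div_mul_cancel₀ _ hx0]⟩
    · rintro ⟨j, hj, hj'⟩
      refine ⟨by rw [hj']; exact mul_ne_zero (pow_ne_zero j hu0) hx0, ?_⟩
      rw [hj', mul_pow, ← pow_mul, mul_comm j, pow_mul, hu.pow_eq_one, one_pow, one_mul]
  rw [e, Finset.card_biUnion]
  · rw [Finset.sum_congr rfl fun j _ => hk' j (f i0), Finset.sum_const, Finset.card_range, smul_eq_mul]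
    exact dvd_mul_right _ _
  · intro a ha b hb hab
    rw [Function.onFun, Finset.disjoint_left]
    intro i hi hi'
    rw [Finset.mem_filter] at hi hi'
    have h1 := hi.2.symm.trans hi'.2
    exact hab (hu.pow_inj (Finset.mem_range.1 ha) (Finset.mem_range.1 hb) (mul_right_cancel₀ hx0 h1))

theorem vp_io (i : Fin 26) : vp (nthN ioN i.val) ∈ IOV := by
  rw [← IOV_eq]
  exact List.mem_map.2 ⟨i.val, List.mem_range.2 i.2, rfl⟩

theorem vp_ro (i : Fin 26) : vp (nthN roN i.val) ∈ ROV := by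
  rw [← ROV_eq]
  exact List.mem_map.2 ⟨i.val, List.mem_range.2 i.2, rfl⟩

theorem vp_ne {i : Fin 26} (h : 4 ≤ nthN ioN i.val) : vp (nthN ioN i.val) ≠ (0, 0, 0, 0) := by
  have : ∀ i : Fin 26, 4 ≤ nthN ioN i.val → vp (nthN ioN i.val) ≠ (0, 0, 0, 0) := by decide +kernel
  exact this i h

theorem vp_ne' {i : Fin 26} (h : 4 ≤ nthN roN i.val) : vp (nthN roN i.val) ≠ (0, 0, 0, 0) := by
  have : ∀ i : Fin 26, 4 ≤ nthN roN i.val → vp (nthN roN i.val) ≠ (0, 0, 0, 0) := by decide +kernel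
  exact this i h

theorem chk_spec {i j : Fin 26} (hi : 4 ≤ nthN ioN i.val) (hj : 4 ≤ nthN roN j.val) :
    (∀ l : Fin 26, nn (vp (nthN ioN i.val)) (vp (nthN roN j.val)) (vp (nthN ioN l.val)) = 0 ∨
      nn (vp (nthN ioN i.val)) (vp (nthN roN j.val)) (vp (nthN ioN l.val)) ∣ 384) ∧
    (Finset.univ.filter fun l : Fin 26 =>
      nn (vp (nthN ioN i.val)) (vp (nthN roN j.val)) (vp (nthN ioN l.val)) = 0).card ≤ 6 := by
  have h := chkA_io
  unfold chkA at h
  rw [List.all_eq_true] at h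
  have h1 := h _ (vp_io i)
  rw [List.all_eq_true] at h1
  have h2 := h1 _ (vp_ro j)
  unfold chkP at h2
  rw [Bool.or_eq_true, Bool.or_eq_true, beq_iff_eq, beq_iff_eq, Bool.and_eq_true, List.all_eq_true,
    decide_eq_true_eq] at h2
  obtain ⟨h3, h4⟩ := (h2.resolve_left fun h => h.elim (vp_ne hi) (vp_ne' hj))
  constructor
  · intro l
    have h5 := h3 _ (vp_io l)
    rw [Bool.or_eq_true, beq_iff_eq, beq_iff_eq] at h5
    exact h5.imp id Int.dvd_of_emod_eq_zero
  · refine le_trans (le_of_eq ?_) h4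
    rw [← IOV_eq, List.countP_map, List.countP_eq_length_filter]
    have h6 : (Finset.univ.filter fun l : Fin 26 =>
        nn (vp (nthN ioN i.val)) (vp (nthN roN j.val)) (vp (nthN ioN l.val)) = 0).card =
        ((Finset.range 26).filter fun l =>
          nn (vp (nthN ioN i.val)) (vp (nthN roN j.val)) (vp (nthN ioN l)) = 0).card := by
      refine Finset.card_bij (fun l _ => l.val) ?_ ?_ ?_
      · intro l hl
        rw [Finset.mem_filter] at hl ⊢
        exact ⟨Finset.mem_range.2 l.2, hl.2⟩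
      · intro a _ b _ hab
        exact Fin.ext hab
      · intro b hb
        rw [Finset.mem_filter] at hb
        exact ⟨⟨b, Finset.mem_range.1 hb.1⟩, Finset.mem_filter.2 ⟨Finset.mem_univ _, hb.2⟩, rfl⟩
    rw [h6]
    rfl

theorem exists_pos {s : ℕ} (hs : s < 48) : (∃ i : Fin 26, nthN ioN i.val = s + 4) ∨ ∃ i : Fin 26, nthN roN i.val = s + 4 := by
  have : ∀ s : Fin 48, (∃ i : Fin 26, nthN ioN i.val = s.val + 4) ∨ ∃ i : Fin 26, nthN roN i.val = s.val + 4 := by
    decide +kernel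
  exact this ⟨s, hs⟩

theorem cartan_io : (nthN ioN (12 : Fin 26).val < 4 ∧ nthN ioN (13 : Fin 26).val < 4) ∧
    nthN roN (12 : Fin 26).val < 4 ∧ nthN roN (13 : Fin 26).val < 4 := by decide

theorem of_card (a : Fin 26 → ℕ) (h4 : (Finset.univ.filter fun i => a i < 4).card ≤ 2) {L : ℕ → F}
    [DecidablePred fun i : Fin 26 => Lp L (a i) = 0]
    (h : 2 < (Finset.univ.filter fun i : Fin 26 => Lp L (a i) = 0).card) : ∃ i, 4 ≤ a i ∧ Lp L (a i) = 0 := by
  by_contra hcon
  push Not at hcon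
  have h1 : (Finset.univ.filter fun i : Fin 26 => Lp L (a i) = 0) ⊆ Finset.univ.filter fun i => a i < 4 := by
    intro i hi
    rw [Finset.mem_filter] at hi ⊢
    refine ⟨hi.1, ?_⟩
    by_contra h2
    exact hcon i (not_lt.1 h2) hi.2
  have h2 := Finset.card_le_card h1
  omega

open Classical in
/-- **No root is in the kernel.** -/
theorem no_root (h2 : (2 : F) ≠ 0) (h3 : (3 : F) ≠ 0) {L : ℕ → F} (hL : Lin L) (hv : ∑ j, fv L j ^ 2 = 0)
    (hne : ∃ j, fv L j ≠ 0)
    (hc : (Finset.univ.filter fun i : Fin 26 => Lp L (nthN ioN i.val) = 0).card =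
      (Finset.univ.filter fun i : Fin 26 => Lp L (nthN roN i.val) = 0).card)
    (h6 : 6 ∣ (Finset.univ.filter fun i : Fin 26 => Lp L (nthN ioN i.val) ≠ 0).card) {s : ℕ} (hs : s < 48) :
    L s ≠ 0 := by
  intro hs0
  have hlt : ∀ n : ℕ, n < 4 → Lp L n = 0 := fun n hn => if_pos hn
  have hsum := Finset.card_filter_add_card_filter_not (s := (Finset.univ : Finset (Fin 26)))
    (fun i : Fin 26 => Lp L (nthN ioN i.val) = 0)
  rw [Finset.card_univ, Fintype.card_fin] at hsum
  have hge : ∀ a : Fin 26 → ℕ, a 12 < 4 → a 13 < 4 → (∃ i, a i = s + 4) →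
      3 ≤ (Finset.univ.filter fun i : Fin 26 => Lp L (a i) = 0).card := by
    rintro a h12 h13 ⟨i, hi⟩
    have h1 : ({12, 13, i} : Finset (Fin 26)) ⊆ Finset.univ.filter fun i : Fin 26 => Lp L (a i) = 0 := by
      intro j hj
      rw [Finset.mem_filter]
      refine ⟨Finset.mem_univ _, ?_⟩
      rw [Finset.mem_insert, Finset.mem_insert, Finset.mem_singleton] at hj
      rcases hj with rfl | rfl | rfl
      · exact hlt _ h12
      · exact hlt _ h13
      · rw [hi]
        unfold Lp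
        rw [if_neg (by omega), Nat.add_sub_cancel]
        exact hs0
    refine le_trans (le_of_eq ?_) (Finset.card_le_card h1)
    rw [Finset.card_insert_of_notMem, Finset.card_insert_of_notMem, Finset.card_singleton]
    · rw [Finset.mem_singleton]
      rintro rfl
      omega
    · rw [Finset.mem_insert, Finset.mem_singleton]
      rintro (h | rfl)
      · exact absurd h (by decide)
      · omega
  have h8 : 8 ≤ (Finset.univ.filter fun i : Fin 26 => Lp L (nthN ioN i.val) = 0).card := by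
    have h9 : 3 ≤ (Finset.univ.filter fun i : Fin 26 => Lp L (nthN ioN i.val) = 0).card := by
      rcases exists_pos hs with h | h
      · exact hge (fun i => nthN ioN i.val) cartan_io.1.1 cartan_io.1.2 h
      · rw [hc]
        exact hge (fun i => nthN roN i.val) cartan_io.2.1 cartan_io.2.2 h
    obtain ⟨k, hk⟩ := h6
    change _ + (Finset.univ.filter fun i : Fin 26 => Lp L (nthN ioN i.val) ≠ 0).card = 26 at hsum
    omega
  obtain ⟨i, hi4, hi⟩ := of_card (fun i => nthN ioN i.val) (by decide) (L := L) (by omega)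
  obtain ⟨j, hj4, hj⟩ := of_card (fun i => nthN roN i.val) (by decide) (L := L) (by omega)
  obtain ⟨h10, h11⟩ := chk_spec hi4 hj4
  have hdp : ∀ n < 52, Lp L n = 0 → dp (vp n) L = 0 := fun n hn h => by
    rw [← two_Lp_dp hL hn, h, mul_zero]
  have h12 : (Finset.univ.filter fun i : Fin 26 => Lp L (nthN ioN i.val) = 0) ⊆ Finset.univ.filter fun l : Fin 26 =>
      nn (vp (nthN ioN i.val)) (vp (nthN roN j.val)) (vp (nthN ioN l.val)) = 0 := by
    intro l hl
    rw [Finset.mem_filter] at hl ⊢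
    refine ⟨hl.1, (h10 l).resolve_right fun hd => ?_⟩
    have h13 := nn_eq_zero (hdp _ (ioN_lt i) hi) (hdp _ (roN_lt j) hj) (hdp _ (ioN_lt l) hl.2) hv hne
    obtain ⟨m, hm⟩ := hd
    have h14 : ((384 : ℤ) : F) = 0 := by rw [hm, Int.cast_mul, h13, zero_mul]
    have h15 : (2 : F) ^ 7 * 3 = 0 := by
      rw [← h14]
      push_cast
      norm_num
    rcases mul_eq_zero.1 h15 with h | h
    · exact pow_ne_zero 7 h2 h
    · exact h3 h
  have h16 := Finset.card_le_card h12
  have h17 : (Finset.univ.filter fun l : Fin 26 =>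
      nn (vp (nthN ioN i.val)) (vp (nthN roN j.val)) (vp (nthN ioN l.val)) = 0).card ≤ 6 := by
    refine le_trans (le_of_eq ?_) h11
    congr
  omega

/-- a vector orthogonal to a totally isotropic plane of a space of dimension four is isotropic -/
theorem dot_eq_zero {v w r : Fin 4 → F} (hli : LinearIndependent F ![v, w]) (h1 : v ⬝ᵥ v = 0) (h2 : v ⬝ᵥ w = 0)
    (h3 : w ⬝ᵥ w = 0) (h4 : r ⬝ᵥ v = 0) (h5 : r ⬝ᵥ w = 0) : r ⬝ᵥ r = 0 := by
  classical
  set! B : LinearMap.BilinForm F (Fin 4 → F) := Matrix.toBilin' 1 with hB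
  have hBa : ∀ x y, B x y = x ⬝ᵥ y := by
    intro x y
    rw [hB, Matrix.toBilin'_apply', Matrix.one_mulVec]
  have hnd : B.Nondegenerate := LinearMap.BilinForm.nondegenerate_toBilin'_of_det_ne_zero' 1 (by simp)
  have hrefl : B.IsRefl := fun x y h => by
    rw [hBa] at h ⊢
    rw [dotProduct_comm]
    exact h
  set! W : Submodule F (Fin 4 → F) := Submodule.span F (Set.range ![v, w]) with hW
  have hfW : Module.finrank F W = 2 := by
    rw [hW, finrank_span_eq_card hli]
    rfl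
  have horth := LinearMap.BilinForm.finrank_orthogonal hnd W
  rw [hfW, Module.finrank_fin_fun] at horth
  have hmem : ∀ x : Fin 4 → F, x ⬝ᵥ v = 0 → x ⬝ᵥ w = 0 → x ∈ B.orthogonal W := by
    intro x hx1 hx2
    rw [LinearMap.BilinForm.mem_orthogonal_iff]
    intro y hy
    rw [hW] at hy
    change B y x = 0
    induction hy using Submodule.span_induction with
    | mem y hy =>
      obtain ⟨i, rfl⟩ := hy
      rw [hBa, dotProduct_comm]
      fin_cases i
      · exact hx1
      · exact hx2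
    | zero => rw [map_zero, LinearMap.zero_apply]
    | add a b _ _ ha hb => rw [map_add, LinearMap.add_apply, ha, hb, add_zero]
    | smul c a _ ha => rw [map_smul, LinearMap.smul_apply, ha, smul_zero]
  have hle : W ≤ B.orthogonal W := by
    rw [hW, Submodule.span_le]
    rintro _ ⟨i, rfl⟩
    fin_cases i
    · exact hmem _ h1 h2
    · exact hmem _ (by rw [dotProduct_comm]; exact h2) h3
  have heq : W = B.orthogonal W := Submodule.eq_of_le_of_finrank_eq hle (by rw [hfW, horth])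
  have hr := hmem r h4 h5
  have hrW : r ∈ W := by rw [heq]; exact hr
  have h6 := (LinearMap.BilinForm.mem_orthogonal_iff.1 hr) r hrW
  change B r r = 0 at h6
  rwa [hBa] at h6

theorem ev_norm : ∀ s : Fin 48, (ev s.val 0 * ev s.val 0 + ev s.val 1 * ev s.val 1 + ev s.val 2 * ev s.val 2 +
    ev s.val 3 * ev s.val 3 = 4) ∨ (ev s.val 0 * ev s.val 0 + ev s.val 1 * ev s.val 1 + ev s.val 2 * ev s.val 2 +
    ev s.val 3 * ev s.val 3 = 8) := by decide +kernel

/-- **No root is in the kernel of a totally isotropic plane.** -/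
theorem no_root_pair (h2 : (2 : F) ≠ 0) {L L' : ℕ → F} (hL : Lin L) (hL' : Lin L')
    (hli : LinearIndependent F ![fv L, fv L']) (h1 : fv L ⬝ᵥ fv L = 0) (h12 : fv L ⬝ᵥ fv L' = 0)
    (h22 : fv L' ⬝ᵥ fv L' = 0) {s : ℕ} (hs : s < 48) (h : L s = 0) : L' s ≠ 0 := by
  intro h'
  have key : ∀ L : ℕ → F, Lin L → L s = 0 →
      (![(ev s 0 : F), (ev s 1 : F), (ev s 2 : F), (ev s 3 : F)] : Fin 4 → F) ⬝ᵥ fv L = 0 := by
    intro L hL h
    have h3 := hL s hs
    rw [h, mul_zero] at h3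
    rw [dotProduct, Fin.sum_univ_four]
    exact h3.symm
  have h3 := dot_eq_zero hli h1 h12 h22 (key L hL h) (key L' hL' h')
  rw [dotProduct, Fin.sum_univ_four] at h3
  change (ev s 0 : F) * (ev s 0 : F) + (ev s 1 : F) * (ev s 1 : F) + (ev s 2 : F) * (ev s 2 : F) +
    (ev s 3 : F) * (ev s 3 : F) = 0 at h3
  have h4 : ((ev s 0 * ev s 0 + ev s 1 * ev s 1 + ev s 2 * ev s 2 + ev s 3 * ev s 3 : ℤ) : F) = 0 := by
    push_cast
    exact h3
  rcases ev_norm ⟨s, hs⟩ with h5 | h5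
  · simp only at h5
    rw [h5] at h4
    have : (2 : F) ^ 2 = 0 := by rw [← h4]; push_cast; norm_num
    exact pow_ne_zero 2 h2 this
  · simp only at h5
    rw [h5] at h4
    have : (2 : F) ^ 3 = 0 := by rw [← h4]; push_cast; norm_num
    exact pow_ne_zero 3 h2 this

end

end Cfsg.Agent.H42.Tw
end

-- part: H42/Tw/F4Mat
section
/-!
# The characters of the elements of `²F₄(q)` conjugate into the torus of `F₄`

`g ∈ ²F₄(q)`, `y g y⁻¹ = T c`, `y ∈ F₄(k)`, `k ⊇ K`: the values of `T c` on the long roots are the images under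
`x ↦ x ^ (2 ^ (m + 1))` of the values on the short roots (`long_eq`), and the latter are permuted by `x ↦ x ^ q`
(`short_eq`).
-/

set_option autoImplicit false

namespace Cfsg.Agent.H42.Tw

open Cfsg Cfsg.Lie Cfsg.Agent.ChevalleyStructure.TwF4.Fix Cfsg.Agent.ChevalleyStructure.TwF4.Torus
open Cfsg.Agent.ChevalleyStructure.TwF4.TwistedFix Cfsg.Agent.ChevalleyStructure.TwF4.Rel Polynomial

/-- all elements of `F₄(k)`, `k` of characteristic `2`, are in block form -/
theorem blk_of_mem {k : Type*} [Field k] [CharP k 2] {y : GL chevF4.Idx k} (hy : y ∈ chevF4.group k) :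
    Blk (y : Matrix chevF4.Idx chevF4.Idx k) := by
  have key : ∀ (r : Fin chevF4.nroots) (t : k) (g : GL chevF4.Idx k),
      (g : Matrix chevF4.Idx chevF4.Idx k) = chevF4.xMat k r t → g = X r.val t := by
    intro r t g hg
    rw [eq_X_iff, hg]
    unfold ChevalleyDatum.x
    rw [dif_pos r.2]
  unfold ChevalleyDatum.group at hy
  induction hy using Subgroup.closure_induction'' with
  | mem g hg =>
    obtain ⟨r, t, hg⟩ := hg
    rw [key r t g hg]
    exact x_Blk _ _
  | inv_mem g hg =>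
    obtain ⟨r, t, hg⟩ := hg
    rw [key r t g hg, X_inv]
    exact x_Blk _ _
  | one => exact Blk_one
  | mul a b _ _ ha hb =>
    rw [Units.val_mul]
    exact Blk_mul ha hb

section

variable {K k : Type*} [Field K] [Field k]

theorem Amat_map (ι : K →+* k) (g : Matrix chevF4.Idx chevF4.Idx K) : Amat (g.map ι) = (Amat g).map ι := rfl

theorem Cmat_map (ι : K →+* k) (g : Matrix chevF4.Idx chevF4.Idx K) : Cmat (g.map ι) = (Cmat g).map ι := rfl

theorem charpoly_A_conj [CharP k 2] {y g : GL chevF4.Idx k} (hy : y ∈ chevF4.group k) (hg : g ∈ chevF4.group k) :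
    (Amat ((y * g * y⁻¹ : GL chevF4.Idx k) : Matrix chevF4.Idx chevF4.Idx k)).charpoly =
      (Amat (g : Matrix chevF4.Idx chevF4.Idx k)).charpoly := by
  have hy' := blk_of_mem (inv_mem hy)
  rw [Units.val_mul, Units.val_mul, Amat_mul hy', Amat_mul (blk_of_mem hg), Matrix.mul_assoc, Matrix.charpoly_mul_comm,
    Matrix.mul_assoc, ← Amat_mul (blk_of_mem hy), ← Units.val_mul, inv_mul_cancel, Units.val_one, Amat_one,
    Matrix.mul_one]

theorem charpoly_C_conj [CharP k 2] {y g : GL chevF4.Idx k} (hy : y ∈ chevF4.group k) (hg : g ∈ chevF4.group k) :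
    (Cmat ((y * g * y⁻¹ : GL chevF4.Idx k) : Matrix chevF4.Idx chevF4.Idx k)).charpoly =
      (Cmat (g : Matrix chevF4.Idx chevF4.Idx k)).charpoly := by
  rw [Units.val_mul, Cmat_mul (blk_of_mem (mul_mem hy hg)), Units.val_mul, Cmat_mul (blk_of_mem hy), Matrix.mul_assoc,
    Matrix.charpoly_mul_comm, Matrix.mul_assoc, ← Cmat_mul (blk_of_mem (inv_mem hy)), ← Units.val_mul, inv_mul_cancel,
    Units.val_one, Cmat_one, Matrix.mul_one]

theorem Amat_T (c : Fin 4 → kˣ) : Amat ((T c : GL chevF4.Idx k) : Matrix chevF4.Idx chevF4.Idx k) =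
    Matrix.diagonal fun i => (chiIdx c (io i) : k) := by
  rw [coe_T]
  exact Matrix.submatrix_diagonal _ _ io_inj

theorem Cmat_T (c : Fin 4 → kˣ) : Cmat ((T c : GL chevF4.Idx k) : Matrix chevF4.Idx chevF4.Idx k) =
    Matrix.diagonal fun i => (chiIdx c (ro i) : k) := by
  rw [coe_T]
  exact Matrix.submatrix_diagonal _ _ ro_inj

theorem multiset_eq {f g : Fin 26 → k} (h : ∏ i, (Polynomial.X - C (f i)) = ∏ i, (Polynomial.X - C (g i))) :
    Finset.univ.val.map f = Finset.univ.val.map g := by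
  have h1 : (Finset.univ.val.map f).map (fun a => (Polynomial.X - C a : k[X])) =
      Finset.univ.val.map fun i => (Polynomial.X - C (f i) : k[X]) := Multiset.map_map _ _ _
  have h2 : (Finset.univ.val.map g).map (fun a => (Polynomial.X - C a : k[X])) =
      Finset.univ.val.map fun i => (Polynomial.X - C (g i) : k[X]) := Multiset.map_map _ _ _
  rw [← Polynomial.roots_multiset_prod_X_sub_C (Finset.univ.val.map f),
    ← Polynomial.roots_multiset_prod_X_sub_C (Finset.univ.val.map g), h1, h2]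
  exact congrArg _ h

variable [CharP K 2] [Finite K] [CharP k 2]

/-- the long roots -/
theorem long_eq {m : ℕ} {φ : K →+* K} (hφ : Rln φ (2 ^ m)) (ι : K →+* k) {g : GL chevF4.Idx K}
    (hg : g ∈ Lie.twistedF4 K (2 ^ m)) {y : GL chevF4.Idx k} (hy : y ∈ chevF4.group k)
    (hgk : glF K k ι g ∈ chevF4.group k) {c : Fin 4 → kˣ} (h : y * glF K k ι g * y⁻¹ = T c) :
    Finset.univ.val.map (fun i : Fin 26 => (chiIdx c (ro i) : k)) =
      Finset.univ.val.map fun i : Fin 26 => (chiIdx c (io i) : k) ^ 2 ^ (m + 1) := by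
  apply multiset_eq
  have e1 : (Cmat ((T c : GL chevF4.Idx k) : Matrix chevF4.Idx chevF4.Idx k)).charpoly =
      ((Cmat (g : Matrix chevF4.Idx chevF4.Idx K)).charpoly).map ι := by
    rw [← h, charpoly_C_conj hy hgk, coe_glF, Cmat_map, Matrix.charpoly_map]
  have e2 : (Amat ((T c : GL chevF4.Idx k) : Matrix chevF4.Idx chevF4.Idx k)).charpoly =
      ((Amat (g : Matrix chevF4.Idx chevF4.Idx K)).charpoly).map ι := by
    rw [← h, charpoly_A_conj hy hgk, coe_glF, Amat_map, Matrix.charpoly_map]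
  have hF := (mem_Fix φ g).1 (twisted_le_Fix hφ hg)
  have : Fact (Nat.Prime 2) := ⟨Nat.prime_two⟩
  have e3 : ι.comp φ = (iterateFrobenius k 2 (m + 1)).comp ι := by
    ext x
    rw [RingHom.comp_apply, RingHom.comp_apply, iterateFrobenius_def, hφ.phi, map_pow, map_pow, ← pow_mul, pow_succ]
  have e4 : (Cmat ((T c : GL chevF4.Idx k) : Matrix chevF4.Idx chevF4.Idx k)).charpoly =
      ((Amat ((T c : GL chevF4.Idx k) : Matrix chevF4.Idx chevF4.Idx k)).charpoly).map
        (iterateFrobenius k 2 (m + 1)) := by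
    rw [e1, e2, hF.2, Matrix.charpoly_map, Polynomial.map_map, Polynomial.map_map, e3]
  rw [Cmat_T, Amat_T, Matrix.charpoly_diagonal, Matrix.charpoly_diagonal, Polynomial.map_prod] at e4
  rw [e4]
  refine Finset.prod_congr rfl fun i _ => ?_
  rw [Polynomial.map_sub, Polynomial.map_X, Polynomial.map_C, iterateFrobenius_def]

omit [CharP K 2] in
/-- the short roots -/
theorem short_eq {n : ℕ} (hK : Nat.card K = 2 ^ n) (ι : K →+* k) {g : GL chevF4.Idx K}
    {y : GL chevF4.Idx k} (hy : y ∈ chevF4.group k)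
    (hgk : glF K k ι g ∈ chevF4.group k) {c : Fin 4 → kˣ} (h : y * glF K k ι g * y⁻¹ = T c) :
    Finset.univ.val.map (fun i : Fin 26 => (chiIdx c (io i) : k)) =
      Finset.univ.val.map fun i : Fin 26 => (chiIdx c (io i) : k) ^ 2 ^ n := by
  apply multiset_eq
  have e2 : (Amat ((T c : GL chevF4.Idx k) : Matrix chevF4.Idx chevF4.Idx k)).charpoly =
      ((Amat (g : Matrix chevF4.Idx chevF4.Idx K)).charpoly).map ι := by
    rw [← h, charpoly_A_conj hy hgk, coe_glF, Amat_map, Matrix.charpoly_map]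
  have : Fact (Nat.Prime 2) := ⟨Nat.prime_two⟩
  have e3 : ι = (iterateFrobenius k 2 n).comp ι := by
    have := Fintype.ofFinite K
    ext x
    rw [RingHom.comp_apply, iterateFrobenius_def, ← map_pow, ← hK, Nat.card_eq_fintype_card, FiniteField.pow_card]
  have e4 : (Amat ((T c : GL chevF4.Idx k) : Matrix chevF4.Idx chevF4.Idx k)).charpoly =
      ((Amat ((T c : GL chevF4.Idx k) : Matrix chevF4.Idx chevF4.Idx k)).charpoly).map
        (iterateFrobenius k 2 n) := by
    conv_lhs => rw [e2, e3, ← Polynomial.map_map, ← e2]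
  rw [Amat_T, Matrix.charpoly_diagonal, Polynomial.map_prod] at e4
  rw [e4]
  refine Finset.prod_congr rfl fun i _ => ?_
  rw [Polynomial.map_sub, Polynomial.map_X, Polynomial.map_C, iterateFrobenius_def]

end

end Cfsg.Agent.H42.Tw
end

-- part: H42/Tw/F4Tor
section
/-!
# Toral `p`-subgroups of `²F₄(q)`

`lg` : the discrete logarithm with respect to a primitive `p`-th root of unity.
-/

set_option autoImplicit false

namespace Cfsg.Agent.H42.Tw

open Cfsg Cfsg.Lie Cfsg.Lie.ChevalleyDatum Cfsg.Agent.ChevalleyStructure.TwF4.Torus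
open Cfsg.Agent.ChevalleyStructure.TwF4.Fix Cfsg.Agent.ChevalleyStructure.TwF4.TwistedFix
open Cfsg.Agent.ChevalleyStructure.F4NTab
open Cfsg.Agent.ChevalleyStructure.TwF4.Bits Cfsg.Agent.ChevalleyStructure.TwF4.Tables
open Cfsg.Agent.ChevalleyStructure.TwF4.Rel

universe u

/-! ### discrete logarithms -/

section Log

variable {k : Type*} [Field k] {p : ℕ} {ζ : kˣ}

open Classical in
/-- the discrete logarithm -/
noncomputable def lg (p : ℕ) (ζ x : kˣ) : ZMod p := if h : ∃ n : ℕ, ζ ^ n = x then (h.choose : ZMod p) else 0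

variable (hζ : orderOf ζ = p)

include hζ

theorem lg_pow (n : ℕ) : lg p ζ (ζ ^ n) = n := by
  have h : ∃ m : ℕ, ζ ^ m = ζ ^ n := ⟨n, rfl⟩
  unfold lg
  rw [dif_pos h]
  have h1 := h.choose_spec
  rw [pow_eq_pow_iff_modEq, hζ] at h1
  exact (ZMod.natCast_eq_natCast_iff _ _ _).2 h1

theorem exists_pow [NeZero p] {x : kˣ} (hx : x ^ p = 1) : ∃ n : ℕ, ζ ^ n = x := by
  have h1 : IsPrimitiveRoot (ζ : k) p := by
    rw [IsPrimitiveRoot.coe_units_iff, ← hζ]
    exact IsPrimitiveRoot.orderOf ζ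
  obtain ⟨i, -, hi⟩ := h1.eq_pow_of_pow_eq_one (ξ := (x : k)) (by rw [← Units.val_pow_eq_pow_val, hx, Units.val_one])
  exact ⟨i, Units.ext (by rw [Units.val_pow_eq_pow_val, hi])⟩

theorem lg_one : lg p ζ 1 = 0 := by
  have := lg_pow hζ 0
  rwa [pow_zero, Nat.cast_zero] at this

theorem lg_mul [NeZero p] {x y : kˣ} (hx : x ^ p = 1) (hy : y ^ p = 1) : lg p ζ (x * y) = lg p ζ x + lg p ζ y := by
  obtain ⟨a, rfl⟩ := exists_pow hζ hx
  obtain ⟨b, rfl⟩ := exists_pow hζ hy
  rw [← pow_add, lg_pow hζ, lg_pow hζ, lg_pow hζ, Nat.cast_add]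

theorem lg_npow [NeZero p] {x : kˣ} (hx : x ^ p = 1) (n : ℕ) : lg p ζ (x ^ n) = n * lg p ζ x := by
  obtain ⟨a, rfl⟩ := exists_pow hζ hx
  rw [← pow_mul, lg_pow hζ, lg_pow hζ, Nat.cast_mul, mul_comm]

theorem lg_inv [NeZero p] {x : kˣ} (hx : x ^ p = 1) : lg p ζ x⁻¹ = -lg p ζ x := by
  rw [eq_neg_iff_add_eq_zero, ← lg_mul hζ (by rw [inv_pow, hx, inv_one]) hx, inv_mul_cancel, lg_one hζ]

theorem lg_zpow [NeZero p] {x : kˣ} (hx : x ^ p = 1) (n : ℤ) : lg p ζ (x ^ n) = n * lg p ζ x := by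
  obtain ⟨a, rfl | rfl⟩ := n.eq_nat_or_neg
  · rw [zpow_natCast, lg_npow hζ hx, Int.cast_natCast]
  · rw [zpow_neg, zpow_natCast, lg_inv hζ (by rw [← pow_mul, mul_comm, pow_mul, hx, one_pow]), lg_npow hζ hx,
      Int.cast_neg, Int.cast_natCast, neg_mul]

theorem eq_one_of_lg [NeZero p] {x : kˣ} (hx : x ^ p = 1) (h : lg p ζ x = 0) : x = 1 := by
  obtain ⟨a, rfl⟩ := exists_pow hζ hx
  rw [lg_pow hζ, ZMod.natCast_eq_zero_iff] at h
  obtain ⟨b, rfl⟩ := h
  rw [pow_mul, ← hζ, pow_orderOf_eq_one, one_pow]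

end Log

/-! ### the linear form of a torus element -/

section Form

variable {k : Type*} [Field k] {p : ℕ} {ζ : kˣ}

/-- the logarithms of the characters -/
noncomputable def LL (p : ℕ) (ζ : kˣ) (c : Fin 4 → kˣ) (s : ℕ) : ZMod p := lg p ζ (chi c s)

theorem chi_npow (c : Fin 4 → kˣ) (s n : ℕ) : chi (c ^ n) s = chi c s ^ n := by
  induction n with
  | zero => rw [pow_zero, pow_zero, chi_one]
  | succ n ih => rw [pow_succ, chi_mul, ih, pow_succ]

theorem chi_pow_eq_one {c : Fin 4 → kˣ} (hc : c ^ p = 1) (s : ℕ) : chi c s ^ p = 1 := by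
  rw [← chi_npow, hc, chi_one]

variable (hζ : orderOf ζ = p) [hfp : Fact p.Prime]

include hζ

theorem LL_eq {c : Fin 4 → kˣ} (hc : c ^ p = 1) (s : ℕ) : LL p ζ c s = (ca 0 s : ZMod p) * lg p ζ (c 0) +
    (ca 1 s : ZMod p) * lg p ζ (c 1) + (ca 2 s : ZMod p) * lg p ζ (c 2) + (ca 3 s : ZMod p) * lg p ζ (c 3) := by
  have h : ∀ i, c i ^ p = 1 := fun i => congrFun hc i
  have h' : ∀ i, ∀ n : ℤ, (c i ^ n) ^ p = 1 := fun i n => by
    rw [← zpow_natCast, ← zpow_mul, mul_comm, zpow_mul, zpow_natCast, h, one_zpow]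
  unfold LL
  rw [chi_def, lg_mul hζ _ (h' 3 _), lg_mul hζ _ (h' 2 _), lg_mul hζ (h' 0 _) (h' 1 _), lg_zpow hζ (h 0),
    lg_zpow hζ (h 1), lg_zpow hζ (h 2), lg_zpow hζ (h 3)]
  · rw [mul_pow, h', h', one_mul]
  · rw [mul_pow, mul_pow, h', h', h', one_mul, one_mul]

theorem lin_LL {c : Fin 4 → kˣ} (hc : c ^ p = 1) : Lin (LL p ζ c) := by
  intro s hs
  simp only [LL_eq hζ hc]
  have e : ∀ i < 4, (2 : ZMod p) * (ca i s : ZMod p) = (ev s 0 : ZMod p) * (ca i 27 : ZMod p) +
      (ev s 1 : ZMod p) * (ca i 28 : ZMod p) + (ev s 2 : ZMod p) * (ca i 29 : ZMod p) +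
      (ev s 3 : ZMod p) * (ca i 44 : ZMod p) := by
    intro i hi
    exact_mod_cast congrArg (Int.cast : ℤ → ZMod p) (two_ca hs hi)
  linear_combination lg p ζ (c 0) * e 0 (by norm_num) + lg p ζ (c 1) * e 1 (by norm_num) +
    lg p ζ (c 2) * e 2 (by norm_num) + lg p ζ (c 3) * e 3 (by norm_num)

theorem Lp_LL (c : Fin 4 → kˣ) {n : ℕ} (hn : n < 52) : Lp (LL p ζ c) n = lg p ζ (chiIdx c (ofPos n)) := by
  unfold Lp ofPos
  by_cases h : n < 4
  · rw [if_pos h, dif_pos h]
    have := chiIdx_inl c (⟨n, h⟩ : Fin chevF4.rank)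
    exact ((congrArg (lg p ζ) this).trans (lg_one hζ)).symm
  · rw [if_neg h, dif_neg h]
    have := chiIdx_inr c (⟨(n - 4) % 48, Nat.mod_lt _ (by decide)⟩ : Fin chevF4.nroots)
    have e : (n - 4) % 48 = n - 4 := Nat.mod_eq_of_lt (show n - 4 < 48 by omega)
    refine Eq.symm ((congrArg (lg p ζ) this).trans ?_)
    show lg p ζ (chi c ((n - 4) % 48)) = _
    rw [e]
    rfl

theorem exists_fv [CharP k 2] (h2 : (2 : ZMod p) ≠ 0) {c : Fin 4 → kˣ} (hc : c ^ p = 1) (hc1 : c ≠ 1) :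
    ∃ j, fv (LL p ζ c) j ≠ 0 := by
  by_contra hcon
  push Not at hcon
  have h27 : LL p ζ c 27 = 0 := hcon 0
  have h28 : LL p ζ c 28 = 0 := hcon 1
  have h29 : LL p ζ c 29 = 0 := hcon 2
  have h44 : LL p ζ c 44 = 0 := hcon 3
  have h : ∀ s < 48, chi c s = 1 := by
    intro s hs
    have h1 := lin_LL hζ hc s hs
    rw [h27, h28, h29, h44, mul_zero, mul_zero, mul_zero, mul_zero, add_zero, add_zero, add_zero] at h1
    exact eq_one_of_lg hζ (chi_pow_eq_one hc s) ((mul_eq_zero.1 h1).resolve_left h2)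
  exact hc1 (eq_one_of_chi (h 33 (by norm_num)) (h 27 (by norm_num)) (h 25 (by norm_num)) (h 24 (by norm_num)))

theorem LL_mul {c d : Fin 4 → kˣ} (hc : c ^ p = 1) (hd : d ^ p = 1) (s : ℕ) :
    LL p ζ (c * d) s = LL p ζ c s + LL p ζ d s := by
  unfold LL
  rw [chi_mul, lg_mul hζ (chi_pow_eq_one hc s) (chi_pow_eq_one hd s)]

/-- the relation for the long roots -/
theorem rel_long {c : Fin 4 → kˣ} (hc : c ^ p = 1) {n : ℕ}
    (h : Finset.univ.val.map (fun i : Fin 26 => (chiIdx c (ro i) : k)) =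
      Finset.univ.val.map fun i : Fin 26 => (chiIdx c (io i) : k) ^ n) :
    Finset.univ.val.map (fun i : Fin 26 => Lp (LL p ζ c) (nthN roN i.val)) =
      Finset.univ.val.map fun i : Fin 26 => (n : ZMod p) * Lp (LL p ζ c) (nthN ioN i.val) := by
  have h1 : Finset.univ.val.map (fun i : Fin 26 => chiIdx c (ro i)) =
      Finset.univ.val.map fun i : Fin 26 => chiIdx c (io i) ^ n := by
    apply Multiset.map_injective (f := (Units.val : kˣ → k)) Units.val_injective
    rw [Multiset.map_map, Multiset.map_map]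
    exact h
  have h2 := congrArg (Multiset.map (lg p ζ)) h1
  rw [Multiset.map_map, Multiset.map_map] at h2
  have hcp : ∀ j, chiIdx c j ^ p = 1 := by
    rintro (j | j)
    · rw [chiIdx_inl, one_pow]
    · rw [chiIdx_inr]
      exact chi_pow_eq_one hc _
  have e1 : (fun i : Fin 26 => Lp (LL p ζ c) (nthN roN i.val)) = lg p ζ ∘ fun i : Fin 26 => chiIdx c (ro i) := by
    funext i
    exact Lp_LL hζ c (roN_lt i)
  have e2 : (fun i : Fin 26 => (n : ZMod p) * Lp (LL p ζ c) (nthN ioN i.val)) =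
      lg p ζ ∘ fun i : Fin 26 => chiIdx c (io i) ^ n := by
    funext i
    rw [Lp_LL hζ c (ioN_lt i), Function.comp_apply, lg_npow hζ (hcp _)]
    rfl
  rw [e1, e2]
  exact h2

/-- the relation for the short roots -/
theorem rel_short {c : Fin 4 → kˣ} (hc : c ^ p = 1) {n : ℕ}
    (h : Finset.univ.val.map (fun i : Fin 26 => (chiIdx c (io i) : k)) =
      Finset.univ.val.map fun i : Fin 26 => (chiIdx c (io i) : k) ^ n) :
    Finset.univ.val.map (fun i : Fin 26 => Lp (LL p ζ c) (nthN ioN i.val)) =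
      Finset.univ.val.map fun i : Fin 26 => (n : ZMod p) * Lp (LL p ζ c) (nthN ioN i.val) := by
  have h1 : Finset.univ.val.map (fun i : Fin 26 => chiIdx c (io i)) =
      Finset.univ.val.map fun i : Fin 26 => chiIdx c (io i) ^ n := by
    apply Multiset.map_injective (f := (Units.val : kˣ → k)) Units.val_injective
    rw [Multiset.map_map, Multiset.map_map]
    exact h
  have h2 := congrArg (Multiset.map (lg p ζ)) h1
  rw [Multiset.map_map, Multiset.map_map] at h2
  have hcp : ∀ j, chiIdx c j ^ p = 1 := by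
    rintro (j | j)
    · rw [chiIdx_inl, one_pow]
    · rw [chiIdx_inr]
      exact chi_pow_eq_one hc _
  have e1 : (fun i : Fin 26 => Lp (LL p ζ c) (nthN ioN i.val)) = lg p ζ ∘ fun i : Fin 26 => chiIdx c (io i) := by
    funext i
    exact Lp_LL hζ c (ioN_lt i)
  have e2 : (fun i : Fin 26 => (n : ZMod p) * Lp (LL p ζ c) (nthN ioN i.val)) =
      lg p ζ ∘ fun i : Fin 26 => chiIdx c (io i) ^ n := by
    funext i
    rw [Lp_LL hζ c (ioN_lt i), Function.comp_apply, lg_npow hζ (hcp _)]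
    rfl
  rw [e2, ← h2, ← e1]

end Form

/-! ### the group -/

section Grp

open Cfsg.Agent.ChevalleyStructure.CoxeterGeomTypes Cfsg.Agent.KFacts.RgdChevCoord Cfsg.Agent.BpExc.TowChev
open Cfsg.Agent.Nodes.RGDChev

theorem isTypeF : IsType chevF4 4 CoxeterMatrix.F₄ := by simp

theorem cardWF : Nat.card (CoxeterMatrix.F₄).Group = 1152 :=
  Cfsg.Agent.S1092.result (⟨4, CoxeterMatrix.F₄⟩, 1152) (by simp)

theorem not_dvd_W {p : ℕ} (hp : p.Prime) (h5 : 5 ≤ p) : ¬ p ∣ Nat.card (CoxeterMatrix.F₄).Group := by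
  rw [cardWF, show (1152 : ℕ) = 2 ^ 7 * 3 ^ 2 by norm_num, hp.dvd_mul]
  rintro (h | h)
  · have := (Nat.prime_dvd_prime_iff_eq hp Nat.prime_two).1 (hp.dvd_of_dvd_pow h)
    omega
  · have := (Nat.prime_dvd_prime_iff_eq hp Nat.prime_three).1 (hp.dvd_of_dvd_pow h)
    omega

theorem twisted_le {K : Type*} [Field K] [CharP K 2] (e : ℕ) : Lie.twistedF4 K e ≤ chevF4.group K := by
  have hX : ∀ (r : ℕ) (t : K), (X r t : GL chevF4.Idx K) ∈ chevF4.group K := by
    intro r t
    by_cases hr : r < chevF4.nroots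
    · refine Subgroup.subset_closure ⟨⟨r, hr⟩, t, ?_⟩
      rw [coe_X]
      unfold ChevalleyDatum.x
      rw [dif_pos hr]
    · have : (X r t : GL chevF4.Idx K) = 1 := by
        apply Units.ext
        rw [coe_X, Units.val_one]
        unfold ChevalleyDatum.x
        rw [dif_neg hr]
      rw [this]
      exact one_mem _
  have hW : ∀ w : List (ℕ × K), (W w : GL chevF4.Idx K) ∈ chevF4.group K := by
    intro w
    induction w with
    | nil => exact one_mem _
    | cons a w ih =>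
      rw [W_cons]
      exact mul_mem (hX _ _) ih
  refine (Subgroup.closure_le _).2 ?_
  rintro g ⟨w, -, hg⟩
  have : g = W w := Units.ext (by rw [hg, coe_W])
  rw [this]
  exact hW w

theorem glF_mem_group {K k : Type*} [Field K] [Field k] (ι : K →+* k) {g : GL chevF4.Idx K}
    (hg : g ∈ chevF4.group K) : glF K k ι g ∈ chevF4.group k :=
  Cfsg.Agent.GpExc.Field.glMap_mem isTypeF.inList ι hg

variable {K : Type u} [Field K] [CharP K 2]

/-- the embedding in `F₄(k)` -/
noncomputable def jj {k : Type*} [Field k] (ι : K →+* k) (e : ℕ) : ↥(Lie.twistedF4 K e) →* ↥(chevF4.group k) :=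
  ((glF K k ι).comp (Lie.twistedF4 K e).subtype).codRestrict (chevF4.group k)
    fun g => glF_mem_group ι (twisted_le e g.2)

theorem coe_jj {k : Type*} [Field k] (ι : K →+* k) (e : ℕ) (g : ↥(Lie.twistedF4 K e)) :
    ((jj ι e g : ↥(chevF4.group k)) : GL chevF4.Idx k) = glF K k ι g := rfl

theorem jj_injective {k : Type*} [Field k] (ι : K →+* k) (e : ℕ) : Function.Injective (jj ι e) := by
  intro a b hab
  exact Subtype.ext (glF_injective K k ι (congrArg Subtype.val hab))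

theorem charP_closure : CharP (AlgebraicClosure K) 2 :=
  charP_of_injective_algebraMap (algebraMap K (AlgebraicClosure K)).injective 2

theorem locFin_closure [Finite K] : LocFin (AlgebraicClosure K) := by
  have h1 := charP_closure (K := K)
  have : Fact (Nat.Prime 2) := ⟨Nat.prime_two⟩
  let _ : Algebra (ZMod 2) K := ZMod.algebra K 2
  have h3 : Algebra.IsAlgebraic (ZMod 2) K := Algebra.IsAlgebraic.of_finite (ZMod 2) K
  have h4 : Algebra.IsAlgebraic (ZMod 2) (AlgebraicClosure K) := Algebra.IsAlgebraic.trans (ZMod 2) K _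
  exact locFin_of_isAlgebraic 2 _

theorem conj_map_mul {G Y : Type*} [Group G] [Group Y] (f : G →* Y) (y : Y) {P : Subgroup G} (a b : P) :
    y * f ((a * b : P) : G) * y⁻¹ = y * f a * y⁻¹ * (y * f b * y⁻¹) := by
  rw [Subgroup.coe_mul, map_mul]
  group

/-- **`p`-subgroups of `²F₄(q)` are toral, `p ≥ 5`.** -/
theorem exists_toral [Finite K] {p : ℕ} [hp : Fact p.Prime] (h5 : 5 ≤ p) (e : ℕ) {P : Subgroup ↥(Lie.twistedF4 K e)}
    (hP : IsPGroup p P) : ∃ (y : ↥(chevF4.group (AlgebraicClosure K))) (cc : P →* (Fin 4 → (AlgebraicClosure K)ˣ)),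
      ∀ x : P, ((y * jj (algebraMap K (AlgebraicClosure K)) e x * y⁻¹ : ↥(chevF4.group (AlgebraicClosure K))) :
        GL chevF4.Idx (AlgebraicClosure K)) = T (cc x) := by
  have h1 := charP_closure (K := K)
  have h2 := locFin_closure (K := K)
  have : Fact (Nat.Prime 2) := ⟨Nat.prime_two⟩
  have hfin : Finite ↥(Lie.twistedF4 K e) := by
    have : Finite (GL chevF4.Idx K) := inferInstance
    infer_instance
  have hfin2 : Finite ↥(P.map (jj (algebraMap K (AlgebraicClosure K)) e)) := by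
    refine Finite.of_surjective (fun x : P => (⟨jj (algebraMap K (AlgebraicClosure K)) e x,
      Subgroup.mem_map_of_mem _ x.2⟩ : P.map (jj (algebraMap K (AlgebraicClosure K)) e))) ?_
    rintro ⟨_, x, hx, rfl⟩
    exact ⟨⟨x, hx⟩, rfl⟩
  obtain ⟨y, hy⟩ := Cfsg.Agent.H795.TorSub.exists_toral_of_not_dvd isTypeF 2 h2 hp.out (by omega)
    (not_dvd_W hp.out h5) (Q := P.map (jj (algebraMap K (AlgebraicClosure K)) e)) (hP.map _)
  have hT : ∀ x : P, ∃ c : Fin 4 → (AlgebraicClosure K)ˣ,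
      ((y * jj (algebraMap K (AlgebraicClosure K)) e x * y⁻¹ : ↥(chevF4.group (AlgebraicClosure K))) :
        GL chevF4.Idx (AlgebraicClosure K)) = T c := by
    intro x
    have h3 := hy _ (Subgroup.mem_map_of_mem _ x.2)
    rw [Subgroup.mem_subgroupOf, diagonal_eq_range] at h3
    obtain ⟨c, hc⟩ := h3
    exact ⟨c, hc.symm⟩
  choose c hc using hT
  have hmul : ∀ a b : P, c (a * b) = c a * c b := by
    intro a b
    apply T_injective
    rw [map_mul, ← hc, ← hc, ← hc, ← Subgroup.coe_mul]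
    exact congrArg Subtype.val (conj_map_mul _ y a b)
  exact ⟨y, MonoidHom.mk' c hmul, hc⟩

end Grp

end Cfsg.Agent.H42.Tw
end

-- part: H42/Tw/F4Main
section
/-!
# Toral `p`-subgroups of `²F₄(q)`: isotropy, cyclic Sylow subgroups

* `isotropic` : `p ∤ q - 1`: the vectors of the elements of order `p` are isotropic;
* `chi_ne_one` : `p ∣ q² - q + 1` or `p ∣ q⁴ - q² + 1`: no root is trivial on an element of order `p`;
* `isCyclic` : in this case the `p`-subgroups are cyclic.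
-/

set_option autoImplicit false
set_option linter.unusedSectionVars false

namespace Cfsg.Agent.H42.Tw

open Cfsg Cfsg.Lie Cfsg.Lie.ChevalleyDatum Cfsg.Agent.ChevalleyStructure.TwF4.Torus
open Cfsg.Agent.ChevalleyStructure.TwF4.Fix Cfsg.Agent.ChevalleyStructure.TwF4.TwistedFix
open Cfsg.Agent.ChevalleyStructure.F4NTab
open Cfsg.Agent.ChevalleyStructure.TwF4.Bits Cfsg.Agent.ChevalleyStructure.TwF4.Tables
open Cfsg.Agent.ChevalleyStructure.TwF4.Rel

universe u

open Classical in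
/-- the numbers of zeros -/
theorem card_zero_eq {F : Type*} [Field F] {n : ℕ} {f g : Fin n → F} {a : F} (ha : a ≠ 0)
    (h : Finset.univ.val.map g = Finset.univ.val.map fun i => a * f i) :
    (Finset.univ.filter fun i => f i = 0).card = (Finset.univ.filter fun i => g i = 0).card := by
  have h1 := congrArg (Multiset.count 0) h
  rw [Multiset.count_map, Multiset.count_map] at h1
  have h2 : (Finset.univ.filter fun i => g i = 0).card =
      (Multiset.filter (fun i => 0 = g i) Finset.univ.val).card := by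
    rw [Finset.card_def, Finset.filter_val]
    congr 1
    exact Multiset.filter_congr fun i _ => ⟨Eq.symm, Eq.symm⟩
  have h3 : (Finset.univ.filter fun i => f i = 0).card =
      (Multiset.filter (fun i => 0 = a * f i) Finset.univ.val).card := by
    rw [Finset.card_def, Finset.filter_val]
    congr 1
    exact Multiset.filter_congr fun i _ => ⟨fun e => by rw [e, mul_zero], fun e =>
      (mul_eq_zero.1 e.symm).resolve_left ha⟩
  rw [h2, h3, h1]

theorem two_ne' {p : ℕ} [hp : Fact p.Prime] (h5 : 5 ≤ p) : (2 : ZMod p) ≠ 0 := by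
  intro h
  have h1 : ((2 : ℕ) : ZMod p) = 0 := by exact_mod_cast h
  have h2 := Nat.le_of_dvd (by norm_num) ((ZMod.natCast_eq_zero_iff 2 p).1 h1)
  omega

theorem three_ne' {p : ℕ} [hp : Fact p.Prime] (h5 : 5 ≤ p) : (3 : ZMod p) ≠ 0 := by
  intro h
  have h1 : ((3 : ℕ) : ZMod p) = 0 := by exact_mod_cast h
  have h2 := Nat.le_of_dvd (by norm_num) ((ZMod.natCast_eq_zero_iff 3 p).1 h1)
  omega

/-- the order of `q` modulo a divisor of `q² - q + 1` -/
theorem prim_six {F : Type*} [Field F] (h2 : (2 : F) ≠ 0) (h3 : (3 : F) ≠ 0) {x : F} (h : x ^ 2 - x + 1 = 0) :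
    IsPrimitiveRoot x 6 := by
  have e : orderOf x = 6 := by
    have c3 : x ^ 3 = -1 := by linear_combination (x + 1) * h
    refine orderOf_eq_of_pow_and_pow_div_prime (by norm_num) ?_ ?_
    · rw [show (6 : ℕ) = 3 * 2 by norm_num, pow_mul, c3]; norm_num
    · intro p hp hd
      have : p = 2 ∨ p = 3 := by
        rw [show (6 : ℕ) = 2 * 3 by norm_num, hp.dvd_mul, Nat.prime_dvd_prime_iff_eq hp Nat.prime_two,
          Nat.prime_dvd_prime_iff_eq hp Nat.prime_three] at hd
        exact hd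
      rcases this with rfl | rfl
      · rw [show 6 / 2 = 3 by norm_num, c3]
        intro h4
        apply h2
        linear_combination -h4
      · rw [show 6 / 3 = 2 by norm_num]
        intro h4
        have h5 : x = 2 := by linear_combination h4 - h
        apply h3
        rw [h5] at h4
        linear_combination h4
  rw [← e]
  exact IsPrimitiveRoot.orderOf x

/-- the order of `q` modulo a divisor of `q⁴ - q² + 1` -/
theorem prim_twelve {F : Type*} [Field F] (h2 : (2 : F) ≠ 0) (h3 : (3 : F) ≠ 0) {x : F} (h : x ^ 4 - x ^ 2 + 1 = 0) :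
    IsPrimitiveRoot x 12 := by
  have e : orderOf x = 12 := by
    have c6 : x ^ 6 = -1 := by linear_combination (x ^ 2 + 1) * h
    refine orderOf_eq_of_pow_and_pow_div_prime (by norm_num) ?_ ?_
    · rw [show (12 : ℕ) = 6 * 2 by norm_num, pow_mul, c6]; norm_num
    · intro p hp hd
      have : p = 2 ∨ p = 3 := by
        rw [show (12 : ℕ) = 2 ^ 2 * 3 by norm_num, hp.dvd_mul, Nat.prime_dvd_prime_iff_eq hp Nat.prime_three] at hd
        rcases hd with hd | hd
        · exact Or.inl ((Nat.prime_dvd_prime_iff_eq hp Nat.prime_two).1 (hp.dvd_of_dvd_pow hd))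
        · exact Or.inr hd
      rcases this with rfl | rfl
      · rw [show 12 / 2 = 6 by norm_num, c6]
        intro h4
        apply h2
        linear_combination -h4
      · rw [show 12 / 3 = 4 by norm_num]
        intro h4
        have h5 : x ^ 2 = 2 := by linear_combination h4 - h
        apply h3
        have h6 : x ^ 4 = (x ^ 2) ^ 2 := by ring
        rw [h6, h5] at h4
        linear_combination h4
  rw [← e]
  exact IsPrimitiveRoot.orderOf x

/-- the toral data -/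
structure Dat {K : Type u} [Field K] [CharP K 2] (e : ℕ) (P : Subgroup ↥(Lie.twistedF4 K e)) where
  y : ↥(chevF4.group (AlgebraicClosure K))
  cc : P →* (Fin 4 → (AlgebraicClosure K)ˣ)
  eq : ∀ x : P, ((y * jj (algebraMap K (AlgebraicClosure K)) e x * y⁻¹ : ↥(chevF4.group (AlgebraicClosure K))) :
        GL chevF4.Idx (AlgebraicClosure K)) = T (cc x)

section

variable {K : Type u} [Field K] [Finite K] [CharP K 2] {m : ℕ} (hK : Nat.card K = 2 ^ (2 * m + 1))
  {p : ℕ} [hp : Fact p.Prime] {P : Subgroup ↥(Lie.twistedF4 K (2 ^ m))} (d : Dat (2 ^ m) P)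

theorem Dat.cc_injective : Function.Injective d.cc := by
  rw [injective_iff_map_eq_one]
  intro x hx
  have h1 := d.eq x
  rw [hx, map_one] at h1
  have h2 : d.y * jj (algebraMap K (AlgebraicClosure K)) (2 ^ m) x * d.y⁻¹ = 1 := Subtype.ext h1
  rw [conj_eq_one_iff] at h2
  have h3 := jj_injective (algebraMap K (AlgebraicClosure K)) (2 ^ m) (h2.trans (map_one _).symm)
  exact Subtype.ext h3

theorem Dat.cc_pow {x : P} (hx : x ^ p = 1) : d.cc x ^ p = 1 := by rw [← map_pow, hx, map_one]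

/-- a primitive root of unity -/
theorem exists_root (h5 : 5 ≤ p) : ∃ ζ : (AlgebraicClosure K)ˣ, orderOf ζ = p := by
  have h1 := charP_closure (K := K)
  have h2 : NeZero ((p : ℕ) : AlgebraicClosure K) := by
    refine ⟨fun h => ?_⟩
    have h3 := (CharP.cast_eq_zero_iff (AlgebraicClosure K) 2 p).1 h
    have h4 := (Nat.prime_dvd_prime_iff_eq Nat.prime_two hp.out).1 h3
    omega
  obtain ⟨ζ, hζ⟩ := HasEnoughRootsOfUnity.exists_primitiveRoot (AlgebraicClosure K) p
  obtain ⟨u, hu⟩ := hζ.isUnit hp.out.ne_zero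
  refine ⟨u, ?_⟩
  rw [← hu, IsPrimitiveRoot.coe_units_iff] at hζ
  exact hζ.eq_orderOf.symm

end

section

variable {K : Type u} [Field K] [Finite K] [CharP K 2] {m : ℕ} (hK : Nat.card K = 2 ^ (2 * m + 1))
  {p : ℕ} [hp : Fact p.Prime] (h5 : 5 ≤ p) {P : Subgroup ↥(Lie.twistedF4 K (2 ^ m))} (d : Dat (2 ^ m) P)
  {ζ : (AlgebraicClosure K)ˣ} (hζ : orderOf ζ = p)

include hK hζ

theorem Dat.long {x : P} (hx : x ^ p = 1) :
    Finset.univ.val.map (fun i : Fin 26 => Lp (LL p ζ (d.cc x)) (nthN roN i.val)) =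
      Finset.univ.val.map fun i : Fin 26 => ((2 ^ (m + 1) : ℕ) : ZMod p) * Lp (LL p ζ (d.cc x)) (nthN ioN i.val) := by
  have h1 := charP_closure (K := K)
  have := Fintype.ofFinite K
  obtain ⟨φ, hφ⟩ := exists_rln (K := K) (m := m) (by rw [← Nat.card_eq_fintype_card]; exact hK)
  refine rel_long hζ (d.cc_pow hx) (long_eq hφ (algebraMap K (AlgebraicClosure K)) (x : ↥(Lie.twistedF4 K (2 ^ m))).2
    d.y.2 (jj (algebraMap K (AlgebraicClosure K)) (2 ^ m) x).2 ?_)
  exact d.eq x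

theorem Dat.short {x : P} (hx : x ^ p = 1) :
    Finset.univ.val.map (fun i : Fin 26 => Lp (LL p ζ (d.cc x)) (nthN ioN i.val)) =
      Finset.univ.val.map fun i : Fin 26 => ((2 ^ (2 * m + 1) : ℕ) : ZMod p) *
        Lp (LL p ζ (d.cc x)) (nthN ioN i.val) := by
  have h1 := charP_closure (K := K)
  refine rel_short hζ (d.cc_pow hx) (short_eq hK (algebraMap K (AlgebraicClosure K)) (g := x)
    d.y.2 (jj (algebraMap K (AlgebraicClosure K)) (2 ^ m) x).2 ?_)
  exact d.eq x

include h5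

/-- **The vectors of the elements of order `p` are isotropic.** -/
theorem Dat.isotropic (hpq : ¬ p ∣ Nat.card K - 1) {x : P} (hx : x ^ p = 1) :
    ∑ j, fv (LL p ζ (d.cc x)) j ^ 2 = 0 := by
  refine sum_sq (two_ne' h5) (three_ne' h5) (lin_LL hζ (d.cc_pow hx)) ?_ (d.long hK hζ hx)
  intro h
  apply hpq
  rw [hK]
  have h1 : ((2 ^ (2 * m + 1) : ℕ) : ZMod p) = 1 := by
    apply mul_left_cancel₀ (two_ne' (p := p) h5)
    rw [mul_one]
    refine Eq.trans ?_ h
    push_cast
    ring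
  have h2 : 1 ≤ 2 ^ (2 * m + 1) := Nat.one_le_two_pow
  rw [← ZMod.natCast_eq_zero_iff, Nat.cast_sub h2, h1, Nat.cast_one, sub_self]

theorem Dat.exists_fv {x : P} (hx : x ^ p = 1) (hx1 : x ≠ 1) : ∃ j, fv (LL p ζ (d.cc x)) j ≠ 0 := by
  have h1 := charP_closure (K := K)
  refine Cfsg.Agent.H42.Tw.exists_fv hζ (two_ne' h5) (d.cc_pow hx) fun h => hx1 ?_
  exact d.cc_injective (h.trans (map_one _).symm)

theorem two_pow_ne (n : ℕ) : ((2 ^ n : ℕ) : ZMod p) ≠ 0 := by
  push_cast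
  exact pow_ne_zero n (two_ne' h5)

/-- **No root is trivial on an element of order `p`**, if the order of `q` modulo `p` is 6 or 12. -/
theorem Dat.chi_ne_one (hpq : ¬ p ∣ Nat.card K - 1) {n : ℕ} (hn : IsPrimitiveRoot ((2 ^ (2 * m + 1) : ℕ) : ZMod p) n)
    (hn0 : 0 < n) (h6 : 6 ∣ n) {x : P} (hx : x ^ p = 1) (hx1 : x ≠ 1) {s : ℕ} (hs : s < 48) :
    chi (d.cc x) s ≠ 1 := by
  classical
  intro h
  refine no_root (two_ne' (p := p) h5) (three_ne' h5) (lin_LL hζ (d.cc_pow hx)) (d.isotropic hK h5 hζ hpq hx)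
    (d.exists_fv hK h5 hζ hx hx1) ?_ ?_ hs (by unfold LL; rw [h, lg_one hζ])
  · have := card_zero_eq (two_pow_ne (p := p) hK h5 hζ (m + 1)) (d.long hK hζ hx)
    convert this
  · have := card_dvd (fun i : Fin 26 => Lp (LL p ζ (d.cc x)) (nthN ioN i.val)) hn0 hn (d.short hK hζ hx)
    refine h6.trans ?_
    convert this

end

section

variable {K : Type u} [Field K] [Finite K] [CharP K 2] {m : ℕ} (hK : Nat.card K = 2 ^ (2 * m + 1))
  {p : ℕ} [hp : Fact p.Prime] (h5 : 5 ≤ p)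

theorem finite_tw (e : ℕ) : Finite ↥(Lie.twistedF4 K e) := by
  have : Finite (GL chevF4.Idx K) := inferInstance
  infer_instance

include hK h5

/-- **The `p`-subgroups are cyclic** if the order of `q` modulo `p` is 6 or 12. -/
theorem isCyclic_of_prim (hpq : ¬ p ∣ Nat.card K - 1) {n : ℕ}
    (hn : IsPrimitiveRoot ((2 ^ (2 * m + 1) : ℕ) : ZMod p) n) (hn0 : 0 < n) (h6 : 6 ∣ n)
    {P : Subgroup ↥(Lie.twistedF4 K (2 ^ m))} (hP : IsPGroup p P) : IsCyclic P := by
  have hfin := finite_tw (K := K) (2 ^ m)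
  by_contra hnc
  obtain ⟨A, -, hA, hc⟩ := Cfsg.Agent.S0126.result (p := p) (by omega) hP hnc
  obtain ⟨y, cc, hcc⟩ := exists_toral (K := K) h5 (2 ^ m) hP
  obtain ⟨ζ, hζ⟩ := exists_root (K := K) h5
  have hinj : Function.Injective fun x : A => LL p ζ (cc x) 27 := by
    have hpow : ∀ x : A, (x : P) ^ p = 1 := fun x => hA.2 x x.2
    intro x x' hxx
    by_contra hne
    have hx1 : ((x : P) * (x' : P)⁻¹) ≠ 1 := fun h => hne (Subtype.ext (mul_inv_eq_one.1 h))
    have hxm : (x : P) * (x' : P)⁻¹ ∈ A := mul_mem x.2 (inv_mem x'.2)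
    refine (Dat.mk y cc hcc).chi_ne_one hK h5 hζ hpq hn hn0 h6 (hA.2 _ hxm) hx1 (s := 27) (by norm_num) ?_
    change chi (cc ((x : P) * (x' : P)⁻¹)) 27 = 1
    rw [map_mul, map_inv, chi_mul, chi_inv, mul_inv_eq_one]
    have h1 : ∀ z : A, chi (cc z) 27 ^ p = 1 := fun z =>
      chi_pow_eq_one (by rw [← map_pow, hpow z, map_one]) 27
    obtain ⟨a, ha⟩ := exists_pow hζ (h1 x)
    obtain ⟨b, hb⟩ := exists_pow hζ (h1 x')
    simp only [LL] at hxx
    rw [← ha, ← hb, lg_pow hζ, lg_pow hζ, ZMod.natCast_eq_natCast_iff] at hxx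
    rw [← ha, ← hb, pow_eq_pow_iff_modEq, hζ]
    exact hxx
  have h1 := Nat.card_le_card_of_injective _ hinj
  rw [hc, Nat.card_zmod] at h1
  have h2 : p < p ^ 2 := by
    rw [pow_two]
    exact lt_mul_of_one_lt_left (by omega) (by omega)
  omega

end

/-- the character of the root `s` -/
theorem ch_eq_chi {k : Type*} [Field k] [CharP k 2] {t : ↥(chevF4.group k)} {c : Fin 4 → kˣ}
    (ht : (t : GL chevF4.Idx k) = T c) {s : ℕ} (hs : s < 48) :
    Cfsg.Agent.KFacts.RgdChevCoord.ch isTypeF (Cfsg.Agent.Nodes.RGDChev.vec chevF4 4 s) t = chi c s := by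
  have htT : t ∈ Cfsg.Agent.KFacts.RgdChevCoord.TT chevF4 k := by
    rw [Subgroup.mem_subgroupOf, diagonal_eq_range, ht]
    exact ⟨c, rfl⟩
  refine Cfsg.Agent.KFacts.RgdChevCoord.ch_eq isTypeF hs htT (Subtype.ext ?_)
  have hx : ∀ a : k, ((Cfsg.Agent.KFacts.RgdChevCoord.xc isTypeF (Cfsg.Agent.Nodes.RGDChev.vec chevF4 4 s) a :
      ↥(chevF4.group k)) : GL chevF4.Idx k) = X s a := by
    intro a
    rw [Cfsg.Agent.KFacts.RgdChevCoord.coe_xc isTypeF hs]
    apply Units.ext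
    rw [Cfsg.Agent.ChevalleyStructure.Elts.coe_xG, coe_X]
  rw [Subgroup.coe_mul, Subgroup.coe_mul, Subgroup.coe_inv, hx, hx, ht, T_conj_X c hs, mul_one]

section

variable {K : Type u} [Field K] [Finite K] [CharP K 2] {m : ℕ}
  {p : ℕ} [hp : Fact p.Prime] (h5 : 5 ≤ p) {P : Subgroup ↥(Lie.twistedF4 K (2 ^ m))} (d : Dat (2 ^ m) P)

include h5

/-- **An element centralising the elements of order `p` of `P` centralises `P`**, if no root is trivial on them. -/
theorem Dat.comm_of (hroot : ∀ s < 48, ∃ x : P, x ^ p = 1 ∧ chi (d.cc x) s ≠ 1) {c : ↥(Lie.twistedF4 K (2 ^ m))}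
    (hc : ∀ x : P, x ^ p = 1 → c * x = x * c) (x : P) : c * x = x * c := by
  have h1 := charP_closure (K := K)
  have hfin := finite_tw (K := K) (2 ^ m)
  have : Fact (Nat.Prime 2) := ⟨Nat.prime_two⟩
  set! f := jj (algebraMap K (AlgebraicClosure K)) (2 ^ m) with hf
  set! F : ↥(Lie.twistedF4 K (2 ^ m)) →* ↥(chevF4.group (AlgebraicClosure K)) :=
    (MulAut.conj d.y).toMonoidHom.comp f with hF
  have hFa : ∀ g, F g = d.y * f g * d.y⁻¹ := fun g => rfl
  have hFinj : Function.Injective F := fun a b hab =>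
    jj_injective (algebraMap K (AlgebraicClosure K)) (2 ^ m) ((MulAut.conj d.y).injective hab)
  have hFT : ∀ x : P, (F x : GL chevF4.Idx (AlgebraicClosure K)) = T (d.cc x) := fun x => d.eq x
  have hTT : ∀ x : P, F x ∈ Cfsg.Agent.KFacts.RgdChevCoord.TT chevF4 (AlgebraicClosure K) := by
    intro x
    rw [Subgroup.mem_subgroupOf, diagonal_eq_range, hFT]
    exact ⟨_, rfl⟩
  have key : F c ∈ Cfsg.Agent.KFacts.RgdChevCoord.TT chevF4 (AlgebraicClosure K) := by
    refine mem_TT_of_comm isTypeF 2 (locFin_closure (K := K)) hp.out (not_dvd_W hp.out h5)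
      (Z := F '' {g | ∃ x : P, x ^ p = 1 ∧ (x : ↥(Lie.twistedF4 K (2 ^ m))) = g}) (Set.toFinite _) ?_ ?_ ?_ ?_
    · rintro _ ⟨_, ⟨x, -, rfl⟩, rfl⟩
      exact hTT x
    · rintro _ ⟨_, ⟨x, hx, rfl⟩, rfl⟩
      refine ⟨1, ?_⟩
      rw [pow_one, ← map_pow, ← Subgroup.coe_pow, hx, Subgroup.coe_one, map_one]
    · intro s hs
      obtain ⟨x, hx, hx1⟩ := hroot s hs
      refine ⟨F x, ⟨x, ⟨x, hx, rfl⟩, rfl⟩, ?_⟩
      rw [ch_eq_chi (hFT x) hs]
      exact fun h => hx1 (Units.ext h)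
    · rintro _ ⟨_, ⟨x, hx, rfl⟩, rfl⟩
      rw [← map_mul, hc x hx, map_mul]
  apply hFinj
  rw [map_mul, map_mul]
  exact Cfsg.Agent.BpExc.TorChev.TT_comm isTypeF _ key _ (hTT x)

end

end Cfsg.Agent.H42.Tw
end

-- part: H42/Tw/F4Rank
section
/-!
# Toral subgroups of rank two of `²F₄(q)`, `p ∤ q - 1`

* `Dat.root_pair` : no root is trivial on two independent elements of order `p`;
* `not_cyclic_of_pair` : the pair lemma gives noncyclic `p`-subgroups.
-/

set_option autoImplicit false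
set_option linter.unusedSectionVars false

namespace Cfsg.Agent.H42.Tw

open Cfsg Cfsg.Lie Cfsg.Lie.ChevalleyDatum Cfsg.Agent.ChevalleyStructure.TwF4.Torus

universe u

section

variable {K : Type u} [Field K] [Finite K] [CharP K 2] {m : ℕ} (hK : Nat.card K = 2 ^ (2 * m + 1))
  {p : ℕ} [hp : Fact p.Prime] (h5 : 5 ≤ p) {P : Subgroup ↥(Lie.twistedF4 K (2 ^ m))} (d : Dat (2 ^ m) P)

include hK h5

/-- **No root is trivial on two independent elements of order `p`.** -/
theorem Dat.root_pair (hpq : ¬ p ∣ Nat.card K - 1) (hPc : ∀ a b : P, a * b = b * a) {x x' : P} (hx : x ^ p = 1)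
    (hx1 : x ≠ 1) (hx' : x' ^ p = 1) (hind : x' ∉ Subgroup.zpowers x) {s : ℕ} (hs : s < 48) (h : chi (d.cc x) s = 1) :
    chi (d.cc x') s ≠ 1 := by
  intro h'
  obtain ⟨ζ, hζ⟩ := exists_root (K := K) h5
  have h2 := two_ne' (p := p) h5
  have hcp := d.cc_pow hx
  have hcp' := d.cc_pow hx'
  have hpow : ∀ (a b : ℕ), (x ^ a * x' ^ b) ^ p = 1 := fun a b => by
    rw [(show Commute (x ^ a) (x' ^ b) from hPc _ _).mul_pow, ← pow_mul, ← pow_mul, mul_comm a, mul_comm b, pow_mul,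
      pow_mul, hx, hx', one_pow, one_pow, one_mul]
  have hLab : ∀ (a b : ℕ) (s : ℕ), LL p ζ (d.cc (x ^ a * x' ^ b)) s =
      (a : ZMod p) * LL p ζ (d.cc x) s + (b : ZMod p) * LL p ζ (d.cc x') s := by
    intro a b s
    rw [map_mul, map_pow, map_pow, LL_mul hζ (by rw [← pow_mul, mul_comm, pow_mul, hcp, one_pow])
      (by rw [← pow_mul, mul_comm, pow_mul, hcp', one_pow])]
    unfold LL
    rw [chi_npow, chi_npow, lg_npow hζ (chi_pow_eq_one hcp s), lg_npow hζ (chi_pow_eq_one hcp' s)]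
  have hfab : ∀ (a b : ℕ) (j : Fin 4), fv (LL p ζ (d.cc (x ^ a * x' ^ b))) j =
      (a : ZMod p) * fv (LL p ζ (d.cc x)) j + (b : ZMod p) * fv (LL p ζ (d.cc x')) j := by
    intro a b j
    fin_cases j
    · exact hLab a b 27
    · exact hLab a b 28
    · exact hLab a b 29
    · exact hLab a b 44
  have hiso : ∀ z : P, z ^ p = 1 → fv (LL p ζ (d.cc z)) ⬝ᵥ fv (LL p ζ (d.cc z)) = 0 := by
    intro z hz
    rw [← d.isotropic hK h5 hζ hpq hz, dotProduct]
    exact Finset.sum_congr rfl fun j _ => (pow_two _).symm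
  refine no_root_pair h2 (lin_LL hζ hcp) (lin_LL hζ hcp') ?_ (hiso x hx) ?_ (hiso x' hx') hs
    (by unfold LL; rw [h, lg_one hζ]) (by unfold LL; rw [h', lg_one hζ])
  · rw [LinearIndependent.pair_iff]
    intro a b hab
    have h3 : x ^ a.val * x' ^ b.val = 1 := by
      by_contra hne
      obtain ⟨j, hj⟩ := d.exists_fv hK h5 hζ (hpow a.val b.val) hne
      apply hj
      rw [hfab, ZMod.natCast_val, ZMod.natCast_val, ZMod.cast_id, ZMod.cast_id]
      have := congrFun hab j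
      simpa only [_root_.Pi.add_apply, _root_.Pi.smul_apply, _root_.smul_eq_mul, _root_.Pi.zero_apply] using this
    have h4 : b = 0 := by
      by_contra hb
      apply hind
      have h5' : x' ^ b.val ∈ Subgroup.zpowers x := by
        rw [eq_inv_of_mul_eq_one_right h3]
        exact inv_mem (pow_mem (Subgroup.mem_zpowers x) _)
      have hbv : b.val ≠ 0 := fun h0 => hb ((ZMod.val_eq_zero b).1 h0)
      have hcop : Nat.gcd p b.val = 1 := (Nat.Prime.coprime_iff_not_dvd hp.out).2 fun hd =>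
        absurd (Nat.le_of_dvd (Nat.pos_of_ne_zero hbv) hd) (not_le.2 (ZMod.val_lt b))
      have h6 : x' ^ Nat.gcd p b.val ∈ Subgroup.zpowers x := by
        rw [← zpow_natCast, Nat.gcd_eq_gcd_ab, zpow_add, zpow_mul, zpow_mul, zpow_natCast, zpow_natCast, hx', one_zpow,
          one_mul]
        exact zpow_mem h5' _
      rwa [hcop, pow_one] at h6
    refine ⟨?_, h4⟩
    rw [h4, ZMod.val_zero, pow_zero, mul_one] at h3
    have h7 : orderOf x = p := orderOf_eq_prime hx hx1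
    have h8 := orderOf_dvd_of_pow_eq_one h3
    rw [h7] at h8
    rw [← ZMod.natCast_zmod_val a, ZMod.natCast_eq_zero_iff]
    exact h8
  · have h3 := hiso (x ^ 1 * x' ^ 1) (hpow 1 1)
    have h4 : fv (LL p ζ (d.cc (x ^ 1 * x' ^ 1))) = fv (LL p ζ (d.cc x)) + fv (LL p ζ (d.cc x')) := by
      funext j
      rw [hfab, Nat.cast_one, one_mul, one_mul, Pi.add_apply]
    rw [h4, add_dotProduct, dotProduct_add, dotProduct_add, hiso x hx, hiso x' hx', zero_add, add_zero,
      dotProduct_comm (fv (LL p ζ (d.cc x'))), ← two_mul] at h3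
    exact (mul_eq_zero.1 h3).resolve_left h2

end

section

open Subgroup Cfsg.Agent.H795

variable {G : Type u} [Group G]

theorem exists_pair_of_noncyclic [Finite G] {p : ℕ} [hp : Fact p.Prime] (hp2 : p ≠ 2) {P : Subgroup G}
    (hP : IsPGroup p P) (hnc : ¬ IsCyclic P) : ∃ x x' : P, x ^ p = 1 ∧ x ≠ 1 ∧ x' ^ p = 1 ∧ x' ∉ zpowers x := by
  obtain ⟨A, -, hA, hc⟩ := Cfsg.Agent.S0126.result hp2 hP hnc
  have hA1 : A ≠ ⊥ := by
    rintro rfl
    rw [card_bot] at hc
    exact (Nat.one_lt_pow two_ne_zero hp.out.one_lt).ne hc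
  obtain ⟨x, hx, hx1⟩ := (A.bot_or_exists_ne_one).resolve_left hA1
  have hlt : zpowers x < A := by
    refine lt_of_le_of_ne (zpowers_le.2 hx) fun h => ?_
    have h1 : Nat.card (zpowers x) = p := by
      rw [Nat.card_zpowers]
      exact orderOf_eq_prime (hA.2 x hx) hx1
    rw [h, hc, pow_two] at h1
    have : 1 < p := hp.out.one_lt
    nlinarith only [h1, this]
  obtain ⟨x', hx', hx'1⟩ := SetLike.exists_of_lt hlt
  exact ⟨x, x', hA.2 x hx, hx1, hA.2 x' hx', hx'1⟩

theorem not_cyclic_of_pair [Finite G] {p : ℕ} [hp : Fact p.Prime] (L M : Subgroup G) (s : G)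
    (hcomm : ∀ l ∈ L, ∀ m ∈ M, l * m = m * l) (hs1 : ∀ l ∈ L, s * l * s⁻¹ ∈ M)
    (hcyc : ∀ P : Subgroup G, P ≤ L → IsPGroup p P → IsCyclic P)
    (hq : ∀ K : Subgroup L, K.Normal → (∀ g : L, ∃ k : ℕ, g ^ p ^ k ∈ K) → K = ⊤)
    (hdvd : p ∣ Nat.card L) : ∃ Q : Subgroup G, IsPGroup p Q ∧ ¬ IsCyclic Q := by
  classical
  obtain ⟨P⟩ : Nonempty (Sylow p L) := inferInstance
  set! PL : Subgroup G := (P : Subgroup L).map L.subtype with hPL
  have hPLL : PL ≤ L := map_subtype_le _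
  have hPLp : IsPGroup p PL := P.2.map _
  have hPLc : IsCyclic PL := hcyc PL hPLL hPLp
  have hbot : (P : Subgroup L) ≠ ⊥ := P.ne_bot_of_dvd_card hdvd
  have hPcomm : IsMulCommutative (P : Subgroup L) := by
    have : IsMulCommutative PL := IsCyclic.isMulCommutative
    exact isMulCommutative_of fun a ha b hb => Subtype.ext
      (_root_.Cfsg.Agent.H795.comm_of this (mem_map_of_mem L.subtype ha) (mem_map_of_mem L.subtype hb))
  obtain ⟨c, hc, z, hz, hzp, hcz⟩ := exists_moving P hPcomm hbot hq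
  have hmove : ∀ x ∈ PL, x ^ p = 1 → (c : G) * x * (c : G)⁻¹ = x → x = 1 := by
    intro x hx hxp hcx
    by_contra hx1
    apply hcz
    apply Subtype.ext
    have h1 : (z : G) ∈ centralizer {(c : G)} := by
      refine mem_of_pow hPLc hx hxp hx1 (mem_map_of_mem L.subtype hz) (congrArg Subtype.val hzp) ?_
      rw [mem_centralizer_singleton_iff]
      exact (mul_inv_eq_iff_eq_mul.1 hcx).symm
    rw [mem_centralizer_singleton_iff] at h1
    change (c : G) * z * (c : G)⁻¹ = z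
    rw [← h1, mul_inv_cancel_right]
  have hzG : (z : G) ^ p = 1 := congrArg Subtype.val hzp
  have hz1 : (z : G) ≠ 1 := by
    intro h
    apply hcz
    have : z = 1 := Subtype.ext h
    rw [this]
    group
  have hzPL : (z : G) ∈ PL := mem_map_of_mem L.subtype hz
  obtain ⟨z', hz'⟩ : ∃ z', z' = s * (z : G) * s⁻¹ := ⟨_, rfl⟩
  have hz'M : z' ∈ M := by rw [hz']; exact hs1 _ z.2
  have hz'p : z' ^ p = 1 := by rw [hz', conj_pow, hzG]; group
  have hzz' : (z : G) * z' = z' * z := hcomm _ z.2 _ hz'M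
  have hz'n : z' ∉ zpowers (z : G) := by
    intro h
    have h1 : z' ∈ PL := (zpowers_le.2 hzPL) h
    have h2 := hmove z' h1 hz'p (by rw [hcomm c c.2 _ hz'M, mul_inv_cancel_right])
    rw [hz', conj_eq_one_iff] at h2
    exact hz1 h2
  have hQ : IsPGroup p (zpowers z' ⊔ zpowers (z : G) : Subgroup G) := by
    refine IsPGroup.to_sup_of_normal_right' (isPGroup_zpowers hz'p) (isPGroup_zpowers hzG) ?_
    rw [zpowers_le]
    have h3 : ∀ w ∈ zpowers (z : G), z' * w = w * z' := by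
      intro w hw
      obtain ⟨n, rfl⟩ := mem_zpowers_iff.1 hw
      exact ((show Commute (z : G) z' from hzz').zpow_left n).symm
    refine mem_normalizer_of' (fun w hw => ?_) (fun w hw => ?_)
    · rw [h3 w hw, mul_inv_cancel_right]
      exact hw
    · rw [mul_assoc, ← h3 w hw, inv_mul_cancel_left]
      exact hw
  refine ⟨_, hQ, fun hcy => hz'n ?_⟩
  exact mem_of_pow hcy (mem_sup_right (mem_zpowers _)) hzG hz1 (mem_sup_left (mem_zpowers _)) hz'p (mem_zpowers _)

/-- a noncyclic `p`-subgroup makes the Sylow subgroups noncyclic -/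
theorem not_cyclic_sylow [Finite G] {p : ℕ} [hp : Fact p.Prime] {Q : Subgroup G} (hQ : IsPGroup p Q)
    (hnc : ¬ IsCyclic Q) (S : Sylow p G) : ¬ IsCyclic (S : Subgroup G) := by
  intro hS
  apply hnc
  obtain ⟨R, hR⟩ := hQ.exists_le_sylow
  have h1 : IsCyclic (R : Subgroup G) := (MulEquiv.isCyclic (Sylow.equiv R S)).2 hS
  exact isCyclic_of_injective (inclusion hR) (inclusion_injective hR)

end

end Cfsg.Agent.H42.Tw
end

-- part: H42/Tw/AbF4Tor
section
/-!
# `AbIrr p` for `²F₄(q)`, `p` odd dividing `q - 1`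
-/

set_option autoImplicit false

namespace Cfsg.Agent.H42.Tw

open Subgroup Cfsg.Agent.H795 Cfsg Cfsg.Agent.SplitTwo.ZS Cfsg.Agent.KFacts.TwF4

universe u

section

variable {G : Type u} [Group G]

/-- a Sylow subgroup contained in a subgroup of index prime to `p`, normalised by the normaliser of this subgroup when
it is abelian -/
theorem exists_sylow_le [Finite G] {p : ℕ} [hp : Fact p.Prime] {T : Subgroup G} (hT : ¬ p ∣ T.index) :
    ∃ D : Sylow p G, (D : Subgroup G) ≤ T := by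
  obtain ⟨P⟩ : Nonempty (Sylow p T) := inferInstance
  have h1 : IsPGroup p ((P : Subgroup T).map T.subtype) := P.2.map _
  have h2 : ¬ p ∣ ((P : Subgroup T).map T.subtype).index := by
    rw [Subgroup.index_map_subtype]
    intro h3
    rcases hp.out.dvd_mul.1 h3 with h4 | h4
    · exact P.not_dvd_index h4
    · exact hT h4
  exact ⟨h1.toSylow h2, Subgroup.map_subtype_le _⟩

/-- elements of `p`-power order of an abelian overgroup -/
theorem mem_sylow_of_pow {p : ℕ} [Fact p.Prime] {T : Subgroup G}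
    (hTc : ∀ a ∈ T, ∀ b ∈ T, a * b = b * a) (D : Sylow p G) (hD : (D : Subgroup G) ≤ T) {x : G} (hx : x ∈ T) {k : ℕ}
    (hxp : x ^ p ^ k = 1) : x ∈ (D : Subgroup G) := by
  have h1 : IsPGroup p (zpowers x) := by
    rintro ⟨y, hy⟩
    obtain ⟨n, rfl⟩ := mem_zpowers_iff.1 hy
    refine ⟨k, Subtype.ext ?_⟩
    change (x ^ n) ^ p ^ k = 1
    rw [← zpow_natCast, ← zpow_mul, mul_comm, zpow_mul, zpow_natCast, hxp, one_zpow]
  have h2 : IsPGroup p ((D : Subgroup G) ⊔ zpowers x : Subgroup G) := by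
    refine IsPGroup.to_sup_of_normal_right' D.2 h1 ?_
    intro d hd
    refine mem_normalizer_iff.2 fun y => ?_
    have key : ∀ y ∈ T, d * y * d⁻¹ = y := fun y hy => by
      rw [hTc d (hD hd) y hy, mul_inv_cancel_right]
    constructor
    · intro hy
      rw [key y ((zpowers_le.2 hx) hy)]
      exact hy
    · intro hy
      have h3 : d⁻¹ * (d * y * d⁻¹) * d⁻¹⁻¹ = y := by group
      have h4 := key _ ((zpowers_le.2 hx) hy)
      have h5 : d * y * d⁻¹ ∈ T := (zpowers_le.2 hx) hy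
      have h6 : y ∈ T := by
        rw [← h3]
        exact mul_mem (mul_mem (inv_mem (hD hd)) h5) (inv_mem (inv_mem (hD hd)))
      rwa [key y h6] at hy
  have h3 := D.3 h2 le_sup_left
  rw [← h3]
  exact mem_sup_right (mem_zpowers x)

/-- elements normalising an abelian overgroup normalise the Sylow subgroup -/
theorem mem_normalizer_sylow {p : ℕ} [Fact p.Prime] {T : Subgroup G}
    (hTc : ∀ a ∈ T, ∀ b ∈ T, a * b = b * a) (D : Sylow p G) (hD : (D : Subgroup G) ≤ T) {n : G}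
    (hn : ∀ x ∈ T, n * x * n⁻¹ ∈ T) (hn' : ∀ x ∈ T, n⁻¹ * x * n ∈ T) :
    n ∈ normalizer ((D : Subgroup G) : Set G) := by
  have key : ∀ x ∈ (D : Subgroup G), ∃ k : ℕ, x ^ p ^ k = 1 := fun x hx => by
    obtain ⟨k, hk⟩ := D.2 ⟨x, hx⟩
    exact ⟨k, congrArg Subtype.val hk⟩
  refine mem_normalizer_iff.2 fun y => ⟨fun hy => ?_, fun hy => ?_⟩
  · obtain ⟨k, hk⟩ := key y hy
    exact mem_sylow_of_pow hTc D hD (hn y (hD hy)) (k := k) (by rw [conj_pow, hk]; group)
  · obtain ⟨k, hk⟩ := key _ hy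
    have h1 := hn' _ (hD hy)
    have e : n⁻¹ * (n * y * n⁻¹) * n = y := by group
    rw [e] at h1
    refine mem_sylow_of_pow hTc D hD h1 (k := k) ?_
    rw [conj_pow] at hk
    have e2 : y ^ p ^ k = n⁻¹ * (n * y ^ p ^ k * n⁻¹) * n := by group
    rw [e2, hk]
    group

end

section

variable {F : Type*} [Field F] {σ : F →+* F} {G : Type u} [Group G] (S : Full σ G)

theorem h_pow (c d : Fˣ) (k : ℕ) : S.h c d ^ k = S.h (c ^ k) (d ^ k) := by
  induction k with
  | zero => rw [pow_zero, pow_zero, pow_zero, S.h_one]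
  | succ k ih => rw [pow_succ, ih, S.h_mul, pow_succ, pow_succ]

/-- a finite subgroup of the units of a field is cyclic -/
theorem unit_mem_zpowers [Finite F] {p : ℕ} [hp : Fact p.Prime] {e c : Fˣ} (he : e ^ p = 1) (he1 : e ≠ 1)
    (hc : c ^ p = 1) : c ∈ zpowers e := mem_zpowers_of_pow he he1 hc

theorem abIrr_minus [Finite F] [Finite G] {p : ℕ} [hp : Fact p.Prime] (hp2 : p ≠ 2) (hT : ¬ p ∣ S.T.index) :
    AbIrr p G := by
  obtain ⟨D, hD⟩ := exists_sylow_le hT
  have hTc : ∀ a ∈ S.T, ∀ b ∈ S.T, a * b = b * a := by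
    intro a ha b hb
    obtain ⟨c, d, rfl⟩ := S.mem_T.1 ha
    obtain ⟨c', d', rfl⟩ := S.mem_T.1 hb
    rw [S.h_mul, S.h_mul, mul_comm c, mul_comm d]
  have hn1 : S.n1 ∈ normalizer ((D : Subgroup G) : Set G) := by
    refine mem_normalizer_sylow hTc D hD ?_ ?_
    · intro x hx
      obtain ⟨c, d, rfl⟩ := S.mem_T.1 hx
      rw [S.n1_h]
      exact S.mem_T.2 ⟨_, _, rfl⟩
    · intro x hx
      obtain ⟨c, d, rfl⟩ := S.mem_T.1 hx
      have h1 := S.n1_h d⁻¹ c⁻¹
      rw [inv_inv, inv_inv] at h1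
      rw [← h1]
      have e : S.n1⁻¹ * (S.n1 * S.h d⁻¹ c⁻¹ * S.n1⁻¹) * S.n1 = S.h d⁻¹ c⁻¹ := by group
      rw [e]
      exact S.mem_T.2 ⟨_, _, rfl⟩
  have hn2 : S.n2 ∈ normalizer ((D : Subgroup G) : Set G) := by
    refine mem_normalizer_sylow hTc D hD ?_ ?_
    · intro x hx
      obtain ⟨c, d, rfl⟩ := S.mem_T.1 hx
      rw [S.n2_h]
      exact S.mem_T.2 ⟨_, _, rfl⟩
    · intro x hx
      obtain ⟨c, d, rfl⟩ := S.mem_T.1 hx
      have h1 := S.n2_h c⁻¹ (d / Units.map (σ : F →* F) c)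
      rw [inv_inv, map_inv, div_inv_eq_mul, div_mul_cancel] at h1
      rw [← h1]
      have e : S.n2⁻¹ * (S.n2 * S.h c⁻¹ (d / Units.map (σ : F →* F) c) * S.n2⁻¹) * S.n2 =
        S.h c⁻¹ (d / Units.map (σ : F →* F) c) := by group
      rw [e]
      exact S.mem_T.2 ⟨_, _, rfl⟩
  refine abIrr_of_one D fun _ B hBD hB hinv => ?_
  have hpc : ∀ c d : Fˣ, (S.h c d) ^ p = 1 → c ^ p = 1 ∧ d ^ p = 1 := by
    intro c d h
    rw [h_pow, ← S.h_one] at h
    exact S.h_inj _ _ _ _ h
  have hsq : ∀ c : Fˣ, c ^ p = 1 → c * c = 1 → c = 1 := by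
    intro c h1 h2
    have h3 : orderOf c ∣ Nat.gcd p 2 := Nat.dvd_gcd (orderOf_dvd_of_pow_eq_one h1)
      (orderOf_dvd_of_pow_eq_one (by rw [pow_two]; exact h2))
    rw [(Nat.coprime_primes hp.out Nat.prime_two).2 hp2, Nat.dvd_one, orderOf_eq_one_iff] at h3
    exact h3
  rcases B.bot_or_exists_ne_one with h1 | ⟨b, hb, hb1⟩
  · exact Or.inl h1
  · right
    -- some `h(1, e)`, `e ≠ 1`, is in `B`
    have h2 : ∃ e : Fˣ, e ≠ 1 ∧ S.h 1 e ∈ B := by
      obtain ⟨c, d, rfl⟩ := S.mem_T.1 (hD (hBD hb))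
      obtain ⟨hc, hd⟩ := hpc c d (hB _ hb)
      have key : ∀ c d : Fˣ, S.h c d ∈ B → S.h 1 (d * (d / Units.map (σ : F →* F) c)) ∈ B := by
        intro c d h
        have h3 := mul_mem h (hinv _ hn2 _ h)
        rwa [S.n2_h, S.h_mul, mul_inv_cancel] at h3
      by_cases h3 : d * (d / Units.map (σ : F →* F) c) = 1
      · by_cases h4 : c⁻¹ * (c⁻¹ / Units.map (σ : F →* F) d⁻¹) = 1
        · exfalso
          have h5 : d * d = Units.map (σ : F →* F) c := by
            rw [← mul_div_assoc, div_eq_one] at h3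
            exact h3
          have h6 : c * c = Units.map (σ : F →* F) d := by
            rw [← mul_div_assoc, div_eq_one, map_inv, ← mul_inv, inv_inj] at h4
            exact h4
          have h7 : (c * c) * (c * c) = c * c := by
            rw [h6, ← map_mul, h5]
            rw [_root_.Cfsg.Agent.KFacts.TwF4.map_map σ S.sq, pow_two, h6]
          have h8 : c = 1 := hsq c hc (mul_eq_left.1 h7)
          rw [h8, map_one] at h5
          apply hb1
          rw [h8, hsq d hd h5, S.h_one]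
        · have h5 := hinv _ hn1 _ hb
          rw [S.n1_h] at h5
          exact ⟨_, h4, key _ _ h5⟩
      · exact ⟨_, h3, key _ _ hb⟩
    obtain ⟨e, he1, he⟩ := h2
    have hep : e ^ p = 1 := (hpc 1 e (hB _ he)).2
    have he' : S.h e 1 ∈ B := by
      have h3 := inv_mem (hinv _ hn1 _ he)
      rwa [S.n1_h, S.h_inv, inv_inv, inv_one, inv_one] at h3
    intro x hx hxp
    obtain ⟨c, d, rfl⟩ := S.mem_T.1 (hD hx)
    obtain ⟨hc, hd⟩ := hpc c d hxp
    obtain ⟨i, hi⟩ := mem_zpowers_iff.1 (unit_mem_zpowers hep he1 hc)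
    obtain ⟨j, hj⟩ := mem_zpowers_iff.1 (unit_mem_zpowers hep he1 hd)
    have h_zpow : ∀ (c d : Fˣ) (k : ℤ), S.h c d ^ k = S.h (c ^ k) (d ^ k) := by
      intro c d k
      obtain ⟨n, rfl | rfl⟩ := k.eq_nat_or_neg
      · rw [zpow_natCast, zpow_natCast, zpow_natCast, h_pow]
      · rw [zpow_neg, zpow_neg, zpow_neg, zpow_natCast, zpow_natCast, zpow_natCast, h_pow, S.h_inv]
    have h3 : S.h c d = S.h e 1 ^ i * S.h 1 e ^ j := by
      rw [h_zpow, h_zpow, S.h_mul, one_zpow, one_zpow, mul_one, one_mul, hi, hj]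
    rw [h3]
    exact mul_mem (zpow_mem he' i) (zpow_mem he j)

end

end Cfsg.Agent.H42.Tw
end

-- part: H42/Tw/F4Asm
section
/-!
# The rows `AbIrr p`, `NormOm p` for `²F₄(q)`

* `abIrr_twF4`, `normOm_twF4` : `p` odd;
* `abelian_twF4` : the Sylow `p`-subgroups are abelian for `p ≥ 5`;
* `cyclic_twF4` : they are cyclic for `p ≥ 5`, `p ∣ q² - q + 1` or `p ∣ q⁴ - q² + 1`.
-/

set_option autoImplicit false
set_option linter.unusedSectionVars false

namespace Cfsg.Agent.H42.Tw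

open Cfsg Cfsg.Lie Cfsg.Lie.ChevalleyDatum Cfsg.Agent.ChevalleyStructure.TwF4.Torus
open Cfsg.Agent.ChevalleyStructure.TwF4.TwistedFix Cfsg.Agent.ChevalleyStructure.F4NTab
open Cfsg.Agent.H795

universe u

/-! ### one Sylow subgroup is enough -/

section

open Subgroup

variable {G : Type u} [Group G]

theorem normOm_of_one [Finite G] {p : ℕ} [Fact p.Prime] (S : Sylow p G)
    (h : IsMulCommutative (S : Subgroup G) → ∀ c : G, (∀ x ∈ (S : Subgroup G), x ^ p = 1 → c * x * c⁻¹ = x) →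
      c ∈ normalizer ((S : Subgroup G) : Set G)) : NormOm p G := by
  intro S' hS' c' hc'
  obtain ⟨g, hg⟩ := MulAction.exists_smul_eq G S S'
  have hmem : ∀ x : G, x ∈ (S : Subgroup G) ↔ g * x * g⁻¹ ∈ (S' : Subgroup G) := by
    intro x
    rw [← hg, Sylow.coe_subgroup_smul]
    constructor
    · intro hx
      exact Subgroup.smul_mem_pointwise_smul x (MulAut.conj g) (S : Subgroup G) hx
    · intro hx
      rw [Subgroup.mem_pointwise_smul_iff_inv_smul_mem, ← map_inv, MulAut.smul_def, MulAut.conj_apply, inv_inv] at hx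
      have e : g⁻¹ * (g * x * g⁻¹) * g = x := by group
      rwa [e] at hx
  have hS : IsMulCommutative (S : Subgroup G) := isMulCommutative_of fun a ha b hb => by
    have h1 := _root_.Cfsg.Agent.H795.comm_of hS' ((hmem a).1 ha) ((hmem b).1 hb)
    have e1 : g * a * g⁻¹ * (g * b * g⁻¹) = g * (a * b) * g⁻¹ := by group
    have e2 : g * b * g⁻¹ * (g * a * g⁻¹) = g * (b * a) * g⁻¹ := by group
    rw [e1, e2] at h1
    exact mul_left_cancel (mul_right_cancel h1)
  have h1 := h hS (g⁻¹ * c' * g) (fun x hx hxp => by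
    have h2 := hc' _ ((hmem x).1 hx) (by rw [conj_pow, hxp]; group)
    have e : g⁻¹ * c' * g * x * (g⁻¹ * c' * g)⁻¹ = g⁻¹ * (c' * (g * x * g⁻¹) * c'⁻¹) * g := by group
    rw [e, h2]
    group)
  rw [mem_normalizer_iff] at h1 ⊢
  intro y
  have h2 := h1 (g⁻¹ * y * g)
  rw [hmem, hmem] at h2
  have e1 : g * (g⁻¹ * y * g) * g⁻¹ = y := by group
  have e2 : g * (g⁻¹ * c' * g * (g⁻¹ * y * g) * (g⁻¹ * c' * g)⁻¹) * g⁻¹ = c' * y * c'⁻¹ := by group
  rwa [e1, e2] at h2

theorem normOm_of_nonabelian {p : ℕ} (h : ∀ S : Sylow p G, ¬ IsMulCommutative (S : Subgroup G)) : NormOm p G :=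
  fun S hS => absurd hS (h S)

end

section

variable {K : Type u} [Field K] [Finite K] [CharP K 2] {m : ℕ} {p : ℕ} [hp : Fact p.Prime] (h5 : 5 ≤ p)

include h5

/-- `NormOm` from the torality data -/
theorem normOm_of_dat (S : Sylow p ↥(Lie.twistedF4 K (2 ^ m))) (d : Dat (2 ^ m) (S : Subgroup ↥(Lie.twistedF4 K (2 ^ m))))
    (hroot : ∀ s < 48, ∃ x : (S : Subgroup ↥(Lie.twistedF4 K (2 ^ m))), x ^ p = 1 ∧ chi (d.cc x) s ≠ 1) :
    NormOm p ↥(Lie.twistedF4 K (2 ^ m)) := by
  have hfin := finite_tw (K := K) (2 ^ m)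
  refine normOm_of_one S fun _ c hc => ?_
  have h1 : ∀ x : (S : Subgroup ↥(Lie.twistedF4 K (2 ^ m))), c * x = x * c := by
    intro x
    refine d.comm_of h5 hroot (fun x hx => ?_) x
    have h2 := hc x x.2 (congrArg Subtype.val hx)
    exact mul_inv_eq_iff_eq_mul.1 h2
  refine mem_normalizer_of' (fun x hx => ?_) (fun x hx => ?_)
  · rw [h1 ⟨x, hx⟩, mul_inv_cancel_right]
    exact hx
  · rw [mul_assoc, ← h1 ⟨x, hx⟩, inv_mul_cancel_left]
    exact hx

/-- **The Sylow `p`-subgroups of `²F₄(q)` are abelian, `p ≥ 5`.** -/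
theorem abelian_twF4 {P : Subgroup ↥(Lie.twistedF4 K (2 ^ m))} (hP : IsPGroup p P) : IsMulCommutative P := by
  obtain ⟨y, cc, hcc⟩ := exists_toral (K := K) h5 (2 ^ m) hP
  have hinj := (Dat.mk y cc hcc).cc_injective
  refine isMulCommutative_of fun a ha b hb => ?_
  have h1 : (⟨a, ha⟩ : P) * ⟨b, hb⟩ = ⟨b, hb⟩ * ⟨a, ha⟩ := hinj (by
    change cc _ = cc _
    rw [map_mul, map_mul, mul_comm])
  exact congrArg Subtype.val h1

end

/-! ### `p ∣ q - 1` -/

section

open Cfsg.Agent.TitsThree.RankTwoZ Cfsg.Agent.ChevalleyStructure.TwF4.TwGen Subgroup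

theorem chi_map {K k : Type*} [Field K] [Field k] (ι : K →+* k) (c : Fin 4 → Kˣ) (s : ℕ) :
    chi (fun i => Units.map (ι : K →* k) (c i)) s = Units.map (ι : K →* k) (chi c s) := by
  simp only [chi_def, map_mul, map_zpow]

theorem glF_T {K k : Type*} [Field K] [Field k] (ι : K →+* k) (c : Fin 4 → Kˣ) :
    glF K k ι (T c) = T fun i => Units.map (ι : K →* k) (c i) := by
  apply Units.ext
  rw [coe_glF, coe_T, coe_T, Matrix.diagonal_map (map_zero ι)]
  congr 1
  funext j
  rcases j with j | j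
  · rw [chiIdx_inl, chiIdx_inl, Units.val_one, Units.val_one, map_one]
  · rw [chiIdx_inr, chiIdx_inr, chi_map]
    rfl

/-- the table for `p ∣ q - 1` -/
theorem tab_minus : ((List.range 48).all fun s =>
    decide ((ca 1 s) ^ 2 - 2 * (ca 2 s) ^ 2 ∣ 8) || decide ((ca 0 s) ^ 2 - 2 * (ca 3 s) ^ 2 ∣ 8)) = true := by
  decide +kernel

theorem minus_aux {F : Type*} [Field F] (h2 : (2 : F) ≠ 0) {a b : ℤ} (hd : a ^ 2 - 2 * b ^ 2 ∣ 8) {e : F}
    (he : 2 * e * e = 1) (h : e * (a : F) + (b : F) = 0) : False := by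
  have h1 : ((a : F)) ^ 2 - 2 * (b : F) ^ 2 = 0 := by
    have hb : (b : F) = -(e * a) := by linear_combination h
    rw [hb]
    linear_combination -(a : F) ^ 2 * he
  obtain ⟨c, hc⟩ := hd
  have h3 : ((8 : ℤ) : F) = 0 := by
    rw [hc]
    push_cast
    rw [h1, zero_mul]
  apply pow_ne_zero 3 h2
  rw [← h3]
  push_cast
  norm_num

variable {K : Type u} [Field K] [Fintype K] [CharP K 2] {m : ℕ} (hK : Fintype.card K = 2 ^ (2 * m + 1)) {φ : K →+* K}
  (hφ : Rln φ (2 ^ m)) {p : ℕ} [hp : Fact p.Prime] (h5 : 5 ≤ p)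

include hK hφ h5

theorem normOm_minus (hpq : p ∣ Nat.card K - 1) : NormOm p ↥(Lie.twistedF4 K (2 ^ m)) := by
  classical
  have hfin := finite_tw (K := K) (2 ^ m)
  have hq : Nat.card K = 2 ^ (2 * m + 1) := by rw [Nat.card_eq_fintype_card, hK]
  have hq2 : 2 ≤ Nat.card K := by
    rw [hq]
    calc 2 = 2 ^ 1 := rfl
      _ ≤ 2 ^ (2 * m + 1) := Nat.pow_le_pow_right (by norm_num) (by omega)
  set! S := Cfsg.Agent.KFacts.TwF4.Inst.full hK hφ with hS
  obtain ⟨hidx, -⟩ := Cfsg.Agent.PreUniq.LowExc.TwF4.torus_of_dvd S hp.out (by omega) rfl hq2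
    (by rw [hq]; exact Cfsg.Agent.S1068.result hK) hpq
  obtain ⟨D, hD⟩ := exists_sylow_le hidx
  have hTc : ∀ a ∈ S.T, ∀ b ∈ S.T, a * b = b * a := by
    intro a ha b hb
    obtain ⟨c, d, rfl⟩ := S.mem_T.1 ha
    obtain ⟨c', d', rfl⟩ := S.mem_T.1 hb
    rw [S.h_mul, S.h_mul, mul_comm c, mul_comm d]
  -- the torality data
  have h1 := charP_closure (K := K)
  have hT : ∀ x : (D : Subgroup ↥(Lie.twistedF4 K (2 ^ m))), ∃ c : Fin 4 → Kˣ, (x : GL chevF4.Idx K) = T c := by
    intro x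
    have h2 := Cfsg.Agent.KFacts.TwF4.Inst.torus_diag hφ (hD x.2)
    rw [diagonal_eq_range] at h2
    obtain ⟨c, hc⟩ := h2
    exact ⟨c, hc.symm⟩
  choose c hc using hT
  have hmul : ∀ a b : (D : Subgroup ↥(Lie.twistedF4 K (2 ^ m))), c (a * b) = c a * c b := by
    intro a b
    apply T_injective
    rw [map_mul, ← hc, ← hc, ← hc]
    rfl
  set! ι := algebraMap K (AlgebraicClosure K) with hι
  let cc : (D : Subgroup ↥(Lie.twistedF4 K (2 ^ m))) →* (Fin 4 → (AlgebraicClosure K)ˣ) :=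
    MonoidHom.mk' (fun x i => Units.map (ι : K →* AlgebraicClosure K) (c x i)) fun a b => by
      funext i
      rw [hmul, Pi.mul_apply, Pi.mul_apply, map_mul]
  let d : Dat (2 ^ m) (D : Subgroup ↥(Lie.twistedF4 K (2 ^ m))) :=
    { y := 1
      cc := cc
      eq := fun x => by
        rw [one_mul, inv_one, mul_one, coe_jj, hc x, glF_T]
        rfl }
  refine normOm_of_dat h5 D d fun s hs => ?_
  -- elements of order `p`
  have hcardU : p ∣ Nat.card Kˣ := by rw [Nat.card_units]; exact hpq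
  obtain ⟨a, ha⟩ := exists_prime_orderOf_dvd_card' (G := Kˣ) p hcardU
  have hap : a ^ p = 1 := by rw [← ha]; exact pow_orderOf_eq_one a
  have he1 : (2 : ZMod p) * ((2 ^ m : ℕ) : ZMod p) * ((2 ^ m : ℕ) : ZMod p) = 1 := by
    have h3 : ((Nat.card K - 1 : ℕ) : ZMod p) = 0 := (ZMod.natCast_eq_zero_iff _ _).2 hpq
    rw [Nat.cast_sub (by omega), Nat.cast_one, sub_eq_zero, hq] at h3
    rw [← h3]
    push_cast
    ring
  have key : ∀ u v : Kˣ, u ^ p = 1 → v ^ p = 1 → ∃ x : (D : Subgroup ↥(Lie.twistedF4 K (2 ^ m))), x ^ p = 1 ∧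
      d.cc x = fun i => Units.map (ι : K →* AlgebraicClosure K) (tc (2 ^ m) u v i) := by
    intro u v hu hv
    have h3 : T (tc (2 ^ m) u v) ∈ Lie.twistedF4 K (2 ^ m) :=
      T_tc_mem hφ.pos.ne' (Cfsg.Agent.KFacts.TwF4.Inst.pow_e hφ) u v
    have h4 : (⟨T (tc (2 ^ m) u v), h3⟩ : ↥(Lie.twistedF4 K (2 ^ m))) ∈ S.T :=
      Cfsg.Agent.KFacts.TwF4.Inst.torus_ge (by rw [diagonal_eq_range]; exact ⟨_, rfl⟩)
    have h6 : tc (2 ^ m) u v ^ p = 1 := by
      funext i
      fin_cases i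
      · change (v ^ 2 ^ m) ^ p = 1
        rw [← pow_mul, mul_comm, pow_mul, hv, one_pow]
      · change (u ^ 2 ^ m) ^ p = 1
        rw [← pow_mul, mul_comm, pow_mul, hu, one_pow]
      · exact hu
      · exact hv
    have h7 : (⟨T (tc (2 ^ m) u v), h3⟩ : ↥(Lie.twistedF4 K (2 ^ m))) ^ p = 1 := by
      apply Subtype.ext
      change (T (tc (2 ^ m) u v)) ^ p = 1
      rw [← map_pow, h6, map_one]
    have h8 := mem_sylow_of_pow hTc D hD h4 (k := 1) (by rw [pow_one]; exact h7)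
    refine ⟨⟨_, h8⟩, Subtype.ext h7, ?_⟩
    have h9 : c ⟨_, h8⟩ = tc (2 ^ m) u v := T_injective (hc _).symm
    change (fun i => Units.map (ι : K →* AlgebraicClosure K) (c ⟨_, h8⟩ i)) = _
    rw [h9]
  have hinj : Function.Injective (Units.map (ι : K →* AlgebraicClosure K)) := Units.map_injective ι.injective
  have hlg : ∀ z : ℤ, a ^ z = 1 → ((z : ℤ) : ZMod p) = 0 := by
    intro z hz
    rw [ZMod.intCast_zmod_eq_zero_iff_dvd, ← ha]
    exact orderOf_dvd_iff_zpow_eq_one.2 hz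
  have h10 := List.all_eq_true.1 tab_minus s (List.mem_range.2 hs)
  rw [Bool.or_eq_true, decide_eq_true_eq, decide_eq_true_eq] at h10
  rcases h10 with h10 | h10
  · obtain ⟨x, hx, hxc⟩ := key a 1 hap (one_pow p)
    refine ⟨x, hx, fun h => ?_⟩
    rw [hxc, chi_map] at h
    have h11 : chi (tc (2 ^ m) a 1) s = 1 := hinj (h.trans (map_one _).symm)
    rw [chi_def] at h11
    have e0 : tc (2 ^ m) a (1 : Kˣ) 0 = 1 := one_pow _
    have e1 : tc (2 ^ m) a (1 : Kˣ) 1 = a ^ 2 ^ m := rfl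
    have e2 : tc (2 ^ m) a (1 : Kˣ) 2 = a := rfl
    have e3 : tc (2 ^ m) a (1 : Kˣ) 3 = 1 := rfl
    rw [e0, e1, e2, e3, one_zpow, one_zpow, one_mul, mul_one, ← zpow_natCast, ← zpow_mul, ← zpow_add] at h11
    have h12 := hlg _ h11
    refine minus_aux (two_ne' h5) h10 he1 ?_
    rw [← h12]
    push_cast
    ring
  · obtain ⟨x, hx, hxc⟩ := key 1 a (one_pow p) hap
    refine ⟨x, hx, fun h => ?_⟩
    rw [hxc, chi_map] at h
    have h11 : chi (tc (2 ^ m) 1 a) s = 1 := hinj (h.trans (map_one _).symm)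
    rw [chi_def] at h11
    have e0 : tc (2 ^ m) (1 : Kˣ) a 0 = a ^ 2 ^ m := rfl
    have e1 : tc (2 ^ m) (1 : Kˣ) a 1 = 1 := one_pow _
    have e2 : tc (2 ^ m) (1 : Kˣ) a 2 = 1 := rfl
    have e3 : tc (2 ^ m) (1 : Kˣ) a 3 = a := rfl
    rw [e0, e1, e2, e3, one_zpow, one_zpow, mul_one, mul_one, ← zpow_natCast, ← zpow_mul, ← zpow_add] at h11
    have h12 := hlg _ h11
    refine minus_aux (two_ne' h5) h10 he1 ?_
    rw [← h12]
    push_cast
    ring

end

/-! ### the rows -/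

section

open Subgroup

/-- the cases -/
theorem cases_ord {q p : ℕ} [hp : Fact p.Prime] (hq2 : 2 ≤ q) (hpq : ¬ p ∣ q) (hd : p ∣ ord q) :
    p ∣ q - 1 ∨ p ∣ q + 1 ∨ p ∣ q ^ 2 + 1 ∨ ((q : ZMod p) ^ 2 - q + 1 = 0) ∨ ((q : ZMod p) ^ 4 - (q : ZMod p) ^ 2 + 1 = 0) := by
  have h1 : ((ord q : ℕ) : ZMod p) = 0 := (ZMod.natCast_eq_zero_iff _ _).2 hd
  have hq0 : ((q : ℕ) : ZMod p) ≠ 0 := fun h => hpq ((ZMod.natCast_eq_zero_iff _ _).1 h)
  have e4 : 1 ≤ q ^ 4 := Nat.one_le_pow _ _ (by omega)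
  have c4 : ((q ^ 4 - 1 : ℕ) : ZMod p) = (q : ZMod p) ^ 4 - 1 := by rw [Nat.cast_sub e4]; push_cast; ring
  have c1 : ((q - 1 : ℕ) : ZMod p) = (q : ZMod p) - 1 := by rw [Nat.cast_sub (by omega)]; push_cast; ring
  unfold ord at h1
  rw [Nat.cast_mul, Nat.cast_mul, Nat.cast_mul, Nat.cast_mul, c4, c1] at h1
  push_cast at h1
  set x : ZMod p := (q : ZMod p) with hx
  have h2 : x ^ 12 * ((x - 1) ^ 2 * ((x + 1) ^ 2 * ((x ^ 2 + 1) ^ 2 * ((x ^ 2 - x + 1) * (x ^ 4 - x ^ 2 + 1))))) = 0 := by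
    rw [← h1]; ring
  rcases mul_eq_zero.1 h2 with h | h
  · exact absurd h (pow_ne_zero 12 hq0)
  rcases mul_eq_zero.1 h with h | h
  · left
    rw [← ZMod.natCast_eq_zero_iff, c1]
    exact pow_eq_zero_iff two_ne_zero |>.1 h
  rcases mul_eq_zero.1 h with h | h
  · right; left
    rw [← ZMod.natCast_eq_zero_iff]
    push_cast
    exact pow_eq_zero_iff two_ne_zero |>.1 h
  rcases mul_eq_zero.1 h with h | h
  · right; right; left
    rw [← ZMod.natCast_eq_zero_iff]
    push_cast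
    exact pow_eq_zero_iff two_ne_zero |>.1 h
  rcases mul_eq_zero.1 h with h | h
  · right; right; right; left; exact h
  · right; right; right; right; exact h

theorem sub_one_of_prim {q p n : ℕ} [hp : Fact p.Prime] (hq : 1 ≤ q) (h : IsPrimitiveRoot (q : ZMod p) n) (hn : 1 < n) :
    ¬ p ∣ q - 1 := by
  intro h1
  have h2 : ((q - 1 : ℕ) : ZMod p) = 0 := (ZMod.natCast_eq_zero_iff _ _).2 h1
  rw [Nat.cast_sub hq, Nat.cast_one, sub_eq_zero] at h2
  rw [h2] at h
  have := h.eq_orderOf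
  rw [orderOf_one] at this
  omega

variable {K : Type u} [Field K] [Fintype K] {m : ℕ} (hm : 1 ≤ m) (hK : Fintype.card K = 2 ^ (2 * m + 1))
  {p : ℕ} [hp : Fact p.Prime]

include hK

/-- **The Sylow `p`-subgroups of `²F₄(q)` are cyclic if `p ∣ q² - q + 1` or `p ∣ q⁴ - q² + 1`, `p ≥ 5`.** -/
theorem cyclic_twF4' (h5 : 5 ≤ p) (h : (((2 ^ (2 * m + 1) : ℕ) : ZMod p) ^ 2 - ((2 ^ (2 * m + 1) : ℕ) : ZMod p) + 1 = 0) ∨
    (((2 ^ (2 * m + 1) : ℕ) : ZMod p) ^ 4 - ((2 ^ (2 * m + 1) : ℕ) : ZMod p) ^ 2 + 1 = 0))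
    {P : Subgroup ↥(Lie.twistedF4 K (2 ^ m))} (hP : IsPGroup p P) : IsCyclic P := by
  have := Cfsg.Agent.ChevalleyStructure.TwF4.Twisted.charP_two hK
  have hq : Nat.card K = 2 ^ (2 * m + 1) := by rw [Nat.card_eq_fintype_card, hK]
  have h1 : 1 ≤ 2 ^ (2 * m + 1) := Nat.one_le_two_pow
  rcases h with h | h
  · have h2 := prim_six (two_ne' h5) (three_ne' h5) h
    exact isCyclic_of_prim hq h5 (by rw [hq]; exact sub_one_of_prim h1 h2 (by norm_num)) h2 (by norm_num) (by norm_num) hP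
  · have h2 := prim_twelve (two_ne' h5) (three_ne' h5) h
    exact isCyclic_of_prim hq h5 (by rw [hq]; exact sub_one_of_prim h1 h2 (by norm_num)) h2 (by norm_num) (by norm_num) hP

/-- the same, with divisibility in `ℕ` -/
theorem cyclic_twF4 (h5 : 5 ≤ p) (h : p ∣ (2 ^ (2 * m + 1)) ^ 2 - 2 ^ (2 * m + 1) + 1 ∨
    p ∣ (2 ^ (2 * m + 1)) ^ 4 - (2 ^ (2 * m + 1)) ^ 2 + 1)
    {P : Subgroup ↥(Lie.twistedF4 K (2 ^ m))} (hP : IsPGroup p P) : IsCyclic P := by
  have h1 : 1 ≤ 2 ^ (2 * m + 1) := Nat.one_le_two_pow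
  refine cyclic_twF4' hK h5 ?_ hP
  generalize 2 ^ (2 * m + 1) = q at h h1
  rcases h with h | h
  · left
    have h2 := (ZMod.natCast_eq_zero_iff _ _).2 h
    have h3 : q ≤ q ^ 2 := Nat.le_self_pow two_ne_zero q
    rw [Nat.cast_add, Nat.cast_sub h3] at h2
    push_cast at h2
    exact h2
  · right
    have h2 := (ZMod.natCast_eq_zero_iff _ _).2 h
    have h3 : q ^ 2 ≤ q ^ 4 := Nat.pow_le_pow_right h1 (by norm_num)
    rw [Nat.cast_add, Nat.cast_sub h3] at h2
    push_cast at h2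
    exact h2

include hm

theorem exists_unit : ∃ c : Kˣ, c ≠ 1 := by
  classical
  have h8 : 2 < Fintype.card K := by
    rw [hK]
    calc 2 < 2 ^ 3 := by norm_num
      _ ≤ 2 ^ (2 * m + 1) := Nat.pow_le_pow_right (by norm_num) (by omega)
  have h1 : Nat.card Kˣ = Nat.card K - 1 := Nat.card_units K
  rw [Nat.card_eq_fintype_card (α := K)] at h1
  have h2 : 1 < Nat.card Kˣ := by omega
  have : Nontrivial Kˣ := Finite.one_lt_card_iff_nontrivial.1 h2
  exact exists_ne 1

/-- **`AbIrr p` for `²F₄(q)`, `p` odd.** -/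
theorem abIrr_tw (hp2 : p ≠ 2) : AbIrr p ↥(Lie.twistedF4 K (2 ^ m)) := by
  have hch := Cfsg.Agent.ChevalleyStructure.TwF4.Twisted.charP_two hK
  have hfin := finite_tw (K := K) (2 ^ m)
  have hq : Nat.card K = 2 ^ (2 * m + 1) := by rw [Nat.card_eq_fintype_card, hK]
  have hq2 : 2 ≤ 2 ^ (2 * m + 1) := by
    calc 2 = 2 ^ 1 := rfl
      _ ≤ 2 ^ (2 * m + 1) := Nat.pow_le_pow_right (by norm_num) (by omega)
  have hcard : Nat.card ↥(Lie.twistedF4 K (2 ^ m)) = ord (2 ^ (2 * m + 1)) := Cfsg.Agent.S1068.result hK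
  have hF := exists_unit hm hK
  obtain ⟨φ, hφ⟩ := exists_rln hK
  by_cases hp3 : p = 3
  · subst hp3
    exact abIrr_of_nonabelian fun S => not_abelian_three K (by positivity) S
  have h5 : 5 ≤ p := by
    have := hp.out.two_le
    have h4 : p ≠ 4 := by
      rintro rfl
      exact absurd hp.out (by norm_num)
    omega
  by_cases hd : p ∣ ord (2 ^ (2 * m + 1))
  swap
  · intro S _ B hBS _ _
    left
    have h1 : (S : Subgroup ↥(Lie.twistedF4 K (2 ^ m))) = ⊥ := by
      rw [← card_eq_one, Sylow.card_eq_multiplicity, hcard, Nat.factorization_eq_zero_of_not_dvd hd, pow_zero]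
    rw [eq_bot_iff, ← h1]
    exact hBS
  have hpq : ¬ p ∣ 2 ^ (2 * m + 1) := by
    intro h
    exact hp2 ((Nat.prime_dvd_prime_iff_eq hp.out Nat.prime_two).1 (hp.out.dvd_of_dvd_pow h))
  set! S := Cfsg.Agent.KFacts.TwF4.Inst.full hK hφ with hS
  rcases cases_ord hq2 hpq hd with h | h | h | h | h
  · obtain ⟨hidx, -⟩ := Cfsg.Agent.PreUniq.LowExc.TwF4.torus_of_dvd S hp.out hp2 hq (hq2) hcard h
    exact abIrr_minus S hp2 hidx
  · exact abIrr_plus S hF rfl h5 hq hq2 hcard h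
  · exact abIrr_sq S hF rfl h5 hq hq2 hcard h
  · exact abIrr_of_cyclic fun Q => cyclic_twF4' hK h5 (Or.inl h) Q.2
  · exact abIrr_of_cyclic fun Q => cyclic_twF4' hK h5 (Or.inr h) Q.2

/-- **`NormOm p` for `²F₄(q)`, `p` odd.** -/
theorem normOm_tw (hp2 : p ≠ 2) : NormOm p ↥(Lie.twistedF4 K (2 ^ m)) := by
  have hch := Cfsg.Agent.ChevalleyStructure.TwF4.Twisted.charP_two hK
  have hfin := finite_tw (K := K) (2 ^ m)
  have hq : Nat.card K = 2 ^ (2 * m + 1) := by rw [Nat.card_eq_fintype_card, hK]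
  have hq2 : 2 ≤ 2 ^ (2 * m + 1) := by
    calc 2 = 2 ^ 1 := rfl
      _ ≤ 2 ^ (2 * m + 1) := Nat.pow_le_pow_right (by norm_num) (by omega)
  have hcard : Nat.card ↥(Lie.twistedF4 K (2 ^ m)) = ord (2 ^ (2 * m + 1)) := Cfsg.Agent.S1068.result hK
  have hF := exists_unit hm hK
  obtain ⟨φ, hφ⟩ := exists_rln hK
  by_cases hp3 : p = 3
  · subst hp3
    exact normOm_of_nonabelian fun S => not_abelian_three K (by positivity) S
  have h5 : 5 ≤ p := by
    have := hp.out.two_le
    have h4 : p ≠ 4 := by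
      rintro rfl
      exact absurd hp.out (by norm_num)
    omega
  by_cases hd : p ∣ ord (2 ^ (2 * m + 1))
  swap
  · intro S _ c _
    have h1 : (S : Subgroup ↥(Lie.twistedF4 K (2 ^ m))) = ⊥ := by
      rw [← card_eq_one, Sylow.card_eq_multiplicity, hcard, Nat.factorization_eq_zero_of_not_dvd hd, pow_zero]
    rw [h1]
    refine mem_normalizer_of' (fun x hx => ?_) (fun x hx => ?_)
    · rw [mem_bot] at hx ⊢
      rw [hx]; group
    · rw [mem_bot] at hx ⊢
      rw [hx]; group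
  have hpq : ¬ p ∣ 2 ^ (2 * m + 1) := by
    intro h
    exact hp2 ((Nat.prime_dvd_prime_iff_eq hp.out Nat.prime_two).1 (hp.out.dvd_of_dvd_pow h))
  set! S := Cfsg.Agent.KFacts.TwF4.Inst.full hK hφ with hS
  obtain ⟨Q⟩ : Nonempty (Sylow p ↥(Lie.twistedF4 K (2 ^ m))) := inferInstance
  obtain ⟨y, cc, hcc⟩ := exists_toral (K := K) h5 (2 ^ m) Q.2
  obtain ⟨ζ, hζ⟩ := exists_root (K := K) h5
  -- the case of rank two
  have htwo : ¬ p ∣ Nat.card K - 1 → ¬ IsCyclic (Q : Subgroup ↥(Lie.twistedF4 K (2 ^ m))) →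
      NormOm p ↥(Lie.twistedF4 K (2 ^ m)) := by
    intro hpm hnc
    obtain ⟨x, x', hx, hx1, hx', hind⟩ := exists_pair_of_noncyclic hp2 Q.2 hnc
    have hab := abelian_twF4 (K := K) (m := m) h5 Q.2
    have hPc : ∀ a b : (Q : Subgroup ↥(Lie.twistedF4 K (2 ^ m))), a * b = b * a := fun a b => hab.is_comm.comm a b
    refine normOm_of_dat h5 Q ⟨y, cc, hcc⟩ fun s hs => ?_
    by_cases h : chi (cc x) s = 1
    · exact ⟨x', hx', (Dat.mk y cc hcc).root_pair hq h5 hpm hPc hx hx1 hx' hind hs h⟩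
    · exact ⟨x, hx, h⟩
  -- the case of rank one
  have hone : ∀ n : ℕ, 6 ∣ n → 0 < n → IsPrimitiveRoot ((2 ^ (2 * m + 1) : ℕ) : ZMod p) n →
      NormOm p ↥(Lie.twistedF4 K (2 ^ m)) := by
    intro n h6 hn hprim
    have hpm : ¬ p ∣ Nat.card K - 1 := by
      rw [hq]
      exact sub_one_of_prim (by omega) hprim (by omega)
    have hne : (Q : Subgroup ↥(Lie.twistedF4 K (2 ^ m))) ≠ ⊥ := Q.ne_bot_of_dvd_card (by rw [hcard]; exact hd)
    have hdQ : p ∣ Nat.card (Q : Subgroup ↥(Lie.twistedF4 K (2 ^ m))) := by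
      obtain ⟨k, hk⟩ := (IsPGroup.iff_card).1 Q.2
      rw [hk]
      refine dvd_pow_self p fun h0 => hne ?_
      rw [h0, pow_zero] at hk
      exact card_eq_one.1 hk
    obtain ⟨x, hx⟩ := exists_prime_orderOf_dvd_card' (G := (Q : Subgroup ↥(Lie.twistedF4 K (2 ^ m)))) p hdQ
    have hxp : x ^ p = 1 := orderOf_dvd_iff_pow_eq_one.1 (dvd_of_eq hx)
    have hx1 : x ≠ 1 := by
      rintro rfl
      rw [orderOf_one] at hx
      exact hp.out.one_lt.ne hx
    refine normOm_of_dat h5 Q ⟨y, cc, hcc⟩ fun s hs => ⟨x, hxp, ?_⟩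
    exact (Dat.mk y cc hcc).chi_ne_one hq h5 hζ hpm hprim hn h6 hxp hx1 hs
  -- noncyclic Sylow subgroups
  have hnc : ∀ (j : ℤ) (a : ℕ), Nat.card (S.XZ j) + 1 = a → p ∣ a → ¬ p ∣ Nat.card K - 1 →
      ¬ IsCyclic (Q : Subgroup ↥(Lie.twistedF4 K (2 ^ m))) := by
    intro j a ha hpa hpm
    have hne : S.XZ j ≠ S.XZ (j + 8) := by
      intro h
      obtain ⟨x, hx, hx1⟩ := S.zsys8.exists_ne j
      exact hx1 (S.X_inf_opp hx (h ▸ hx))
    have h1 := card_succ_dvd S.zsys8 hne
    rw [ha] at h1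
    obtain ⟨R, hR, hRc⟩ := not_cyclic_of_pair (S.XZ j ⊔ S.XZ (j + 8)) (S.XZ (j + 4) ⊔ S.XZ (j + 4 + 8))
      (S.rot ^ (2 : ℤ)) (fun l hl m hm => comm_LM S hl hm) (fun l hl => rot_sup S hl)
      (fun P hP hPp => cyc S hF rfl hp2 hpm P hP hPp) (fun K hK h => noquot S rfl hp2 K hK h) (hpa.trans h1)
    exact not_cyclic_sylow hR hRc Q
  rcases cases_ord hq2 hpq hd with h | h | h | h | h
  · exact normOm_minus hK hφ h5 (by rw [hq]; exact h)
  · have hpm : ¬ p ∣ Nat.card K - 1 := by rw [hq]; exact not_dvd_sub_one_of_plus h5 hq2 h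
    refine htwo hpm (hnc 1 _ ?_ h hpm)
    have := card_odd S 0
    rw [show (2 : ℤ) * 0 + 1 = 1 by ring] at this
    rw [this, hq]
  · have hpm : ¬ p ∣ Nat.card K - 1 := by rw [hq]; exact not_dvd_sub_one_of_sq h5 hq2 h
    refine htwo hpm (hnc 0 _ ?_ h hpm)
    have := card_even S 0
    rw [show (2 : ℤ) * 0 = 0 by ring] at this
    rw [this, hq]
  · exact hone 6 (by norm_num) (by norm_num) (prim_six (two_ne' h5) (three_ne' h5) h)
  · exact hone 12 (by norm_num) (by norm_num) (prim_twelve (two_ne' h5) (three_ne' h5) h)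

end

/-- **`AbIrr p` for `²F₄(q)`.** -/
theorem abIrr_twF4 {G : Type*} [Group G] [Finite G] (h : Lie.Iso2F4 G) {p : ℕ} [hp : Fact p.Prime] (hp2 : p ≠ 2) :
    AbIrr p G := by
  obtain ⟨K, _, _, m, hm, hK, ⟨e⟩⟩ := h
  exact (abIrr_tw hm hK hp2).of_mulEquiv e.symm

theorem normOm_of_mulEquiv {G H : Type*} [Group G] [Group H] {p : ℕ} (e : G ≃* H) (h : NormOm p H) : NormOm p G := by
  intro S hS c hc
  let S0 : Sylow p H := S.comapOfInjective e.symm.toMonoidHom e.symm.injective (by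
    rw [MonoidHom.range_eq_top.2 e.symm.surjective]
    exact le_top)
  have hmem : ∀ y : H, y ∈ (S0 : Subgroup H) ↔ e.symm y ∈ (S : Subgroup G) := fun y => Iff.rfl
  have hS0 : IsMulCommutative (S0 : Subgroup H) := isMulCommutative_of fun a ha b hb => by
    apply e.symm.injective
    rw [map_mul, map_mul]
    exact _root_.Cfsg.Agent.H795.comm_of hS ((hmem a).1 ha) ((hmem b).1 hb)
  have h1 := h S0 hS0 (e c) (fun y hy hyp => by
    have h2 := hc (e.symm y) ((hmem y).1 hy) (by rw [← map_pow, hyp, map_one])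
    apply e.symm.injective
    rw [map_mul, map_mul, map_inv, MulEquiv.symm_apply_apply]
    exact h2)
  rw [Subgroup.mem_normalizer_iff] at h1 ⊢
  intro x
  have h2 := h1 (e x)
  rw [hmem, hmem, map_mul, map_mul, map_inv, MulEquiv.symm_apply_apply, MulEquiv.symm_apply_apply] at h2
  exact h2

/-- **`NormOm p` for `²F₄(q)`.** -/
theorem normOm_twF4 {G : Type*} [Group G] [Finite G] (h : Lie.Iso2F4 G) {p : ℕ} [hp : Fact p.Prime] (hp2 : p ≠ 2) :
    NormOm p G := by
  obtain ⟨K, _, _, m, hm, hK, ⟨e⟩⟩ := h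
  exact normOm_of_mulEquiv e (normOm_tw hm hK hp2)

/-- **The `p`-subgroups of `²F₄(q)` are abelian, `p ≥ 5`.** -/
theorem abelian_of_iso2F4 {G : Type*} [Group G] (h : Lie.Iso2F4 G) {p : ℕ} [hp : Fact p.Prime] (h5 : 5 ≤ p)
    {P : Subgroup G} (hP : IsPGroup p P) : IsMulCommutative P := by
  obtain ⟨K, _, _, m, hm, hK, ⟨e⟩⟩ := h
  have hch := Cfsg.Agent.ChevalleyStructure.TwF4.Twisted.charP_two hK
  have h1 := abelian_twF4 (K := K) (m := m) h5 (hP.map e.toMonoidHom)
  refine isMulCommutative_of fun a ha b hb => e.injective ?_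
  rw [map_mul, map_mul]
  exact _root_.Cfsg.Agent.H795.comm_of h1 (Subgroup.mem_map_of_mem _ ha) (Subgroup.mem_map_of_mem _ hb)

end Cfsg.Agent.H42.Tw
end

private theorem dce_b8ee14676850 : _root_.True := by
  try have : _root_.True := by simp only [_root_.Cfsg.Agent.H42.Tw.nu.eq_1]
  try have : _root_.True := by simp only [_root_.Cfsg.Agent.H42.Tw.LL.eq_1]
  try have : _root_.True := by simp only [_root_.Cfsg.Agent.H42.Tw.nn.eq_1]
  try have : _root_.True := by simp only [_root_.Cfsg.Agent.H42.Tw.dp.eq_1]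
  exact _root_.True.intro
end

-- part: H565/NoMin
section
set_option linter.all false
open scoped Cfsg.Agent.FastGrp

/-!
# Groups in which no `t`-element acts nontrivially on an `s`-subgroup

* `NoMin s t G` : there is no minimal noncentralised invariant `s`-subgroup (`MinD`) of a `t`-element;
* `NoMin.cen` : a `t`-element normalising an `s`-subgroup centralises it;
* `NoMin.of_injective`, `NoMin.of_equiv`;
* `ns_of_noMin` : a solvable `{s, t}`-group with `NoMin s t` has a normal Sylow `t`-subgroup;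
* `noMin_of_rank` : `PRankLE s 2 G`, `2 < s < t` imply `NoMin s t G`; `noMin_of_cyclic`.
-/

set_option autoImplicit false

namespace Cfsg.Agent.H565.NM

open Subgroup Cfsg Cfsg.Agent.H167.OP Cfsg.Agent.Lib

/-- No `t`-element acts nontrivially on an `s`-subgroup. -/
def NoMin (s t : ℕ) (G : Type*) [Group G] : Prop :=
  ∀ (y : G) (D : Subgroup G), ¬ MinD s t y D

variable {G : Type*} [Group G] {s t : ℕ}

theorem mem_of_pow_mem_coprime {N : Subgroup G} {x : G} {a b : ℕ} (ha : x ^ a ∈ N) (hb : x ^ b ∈ N)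
    (hab : a.Coprime b) : x ∈ N := by
  have h1 : x ^ ((Nat.gcd a b : ℕ) : ℤ) ∈ N := by
    rw [Nat.gcd_eq_gcd_ab, zpow_add, zpow_mul, zpow_mul]
    exact mul_mem (zpow_mem (by simpa using ha) _) (zpow_mem (by simpa using hb) _)
  rw [hab, Nat.cast_one, zpow_one] at h1
  exact h1

/-- a `t`-element normalising an `s`-subgroup centralises it -/
theorem NoMin.cen [Finite G] (h : NoMin s t G) (hs : s.Prime) (ht : t.Prime) (hst : s ≠ t) {y : G} {B : Subgroup G}
    (hB : IsPGroup s B) (hy : ∃ k : ℕ, y ^ t ^ k = 1) (hn : y ∈ normalizer (B : Set G)) : ∀ b ∈ B, y * b = b * y := by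
  by_contra hcon
  obtain ⟨D, -, hD⟩ := exists_minD (B := B) hs ht hst (y := y) (fun d hd => by
    obtain ⟨k, hk⟩ := hB ⟨d, hd⟩
    exact ⟨k, congrArg Subtype.val hk⟩) hy (fun d hd => (mem_normalizer_iff.1 hn d).1 hd) hcon
  exact h y D hD

theorem NoMin.of_injective {H : Type*} [Group H] (f : G →* H) (hf : Function.Injective f) (h : NoMin s t H) :
    NoMin s t G := by
  intro y D hD
  refine h (f y) (D.map f) ⟨hD.hs, hD.ht, hD.hst, ?_, ?_, ?_, ?_, ?_⟩
  · rintro _ ⟨d, hd, rfl⟩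
    obtain ⟨k, hk⟩ := hD.hD d hd
    exact ⟨k, by rw [← map_pow, hk, map_one]⟩
  · obtain ⟨k, hk⟩ := hD.hy
    exact ⟨k, by rw [← map_pow, hk, map_one]⟩
  · rintro _ ⟨d, hd, rfl⟩
    exact ⟨y * d * y⁻¹, hD.nrm d hd, by rw [map_mul, map_mul, map_inv]⟩
  · intro hc
    apply hD.ncen
    intro d hd
    apply hf
    rw [map_mul, map_mul]
    exact hc _ ⟨d, hd, rfl⟩
  · intro E hE hEn
    have hED : (E.comap f).map f = E := by
      rw [Subgroup.map_comap_eq_self]
      exact hE.trans (Subgroup.map_le_range f D)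
    rcases hD.hmin (E.comap f) (fun x hx => by
      obtain ⟨d, hd, e⟩ := hE hx
      rw [← hf e]
      exact hd) (fun x hx => by
      have := hEn (f x) hx
      rw [← map_mul, ← map_inv, ← map_mul] at this
      exact this) with h1 | h1
    · left
      rw [← h1, hED]
    · right
      intro x hx
      rw [← hED] at hx
      obtain ⟨z, hz, rfl⟩ := hx
      rw [← map_mul, ← map_mul, h1 z hz]

theorem NoMin.of_equiv {H : Type*} [Group H] (e : G ≃* H) (h : NoMin s t H) : NoMin s t G :=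
  h.of_injective e.toMonoidHom e.injective

theorem NoMin.subgroup (h : NoMin s t G) (X : Subgroup G) : NoMin s t X :=
  h.of_injective X.subtype X.subtype_injective

/-- **Solvable `{s, t}`-groups in which `t`-elements centralise the `s`-subgroups they normalise.** -/
theorem ns_of_noMin [Finite G] (hs : s.Prime) (ht : t.Prime) (hst : s ≠ t) (hG : Group.IsSolvable G)
    (hpr : ∀ r : ℕ, r.Prime → r ∣ Nat.card G → r = s ∨ r = t) (h : NoMin s t G) :
    ∃ T : Subgroup G, T.Normal ∧ IsPGroup t T ∧ ¬ t ∣ T.index := by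
  classical
  have hfs : Fact s.Prime := ⟨hs⟩
  have hft : Fact t.Prime := ⟨ht⟩
  set N := pPrimeCore s G with hN
  have hNn : N.Normal := Cores.pPrimeCore_normal s
  have hNc : (Nat.card N).Coprime s := Cores.pPrimeCore_coprime s
  have hNt : IsPGroup t N := by
    rw [IsPGroup.iff_card]
    refine ⟨_, Nat.eq_prime_pow_of_unique_prime_dvd (p := t) Nat.card_pos.ne' fun {r} hr hrd => ?_⟩
    rcases hpr r hr (hrd.trans (Subgroup.card_subgroup_dvd_card N)) with rfl | rfl
    · exact absurd (Nat.Coprime.eq_one_of_dvd hNc.symm hrd) hr.ne_one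
    · rfl
  set f := QuotientGroup.mk' N with hf
  have hfs' : Function.Surjective f := QuotientGroup.mk'_surjective N
  have hker : ∀ x, f x = 1 ↔ x ∈ N := fun x => by
    rw [← MonoidHom.mem_ker, hf, QuotientGroup.ker_mk']
  have hbot : pPrimeCore s (G ⧸ N) = ⊥ := Cores.pPrimeCore_quotient_pPrimeCore s
  have hcent := HallHigman.centralizer_pCore_le_of_solvable (G := G ⧸ N) s hbot
  set U := pCore s (G ⧸ N) with hU
  have hUn : U.Normal := Cores.pCore_normal s
  have hUp : IsPGroup s U := Cores.pCore_isPGroup s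
  obtain ⟨S⟩ : Nonempty (Sylow s G) := inferInstance
  set P : Subgroup G := (S : Subgroup G) ⊓ U.comap f with hP
  have hPs : IsPGroup s P := S.isPGroup'.to_le inf_le_left
  have hPU : P.map f = U := by
    apply le_antisymm
    · rintro _ ⟨x, hx, rfl⟩
      exact hx.2
    · intro u hu
      have h1 : u ∈ (S.mapSurjective hfs' : Sylow s (G ⧸ N)) := Cores.pCore_le_sylow _ hu
      obtain ⟨x, hx, rfl⟩ := h1
      exact ⟨x, ⟨hx, hu⟩, rfl⟩
  -- all `t`-elements modulo `N` lie in `N`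
  have key : ∀ y : G, (∃ k : ℕ, f y ^ t ^ k = 1) → y ∈ N := by
    rintro y ⟨k, hk⟩
    have hg : ∀ x ∈ P, y * x * y⁻¹ ∈ P ⊔ N := by
      intro x hx
      have h1 : f (y * x * y⁻¹) ∈ P.map f := by
        rw [hPU, map_mul, map_mul, map_inv]
        exact hUn.conj_mem _ hx.2 _
      obtain ⟨z, hz, e⟩ := h1
      have h2 : z⁻¹ * (y * x * y⁻¹) ∈ N := by
        rw [← hker, map_mul, map_inv, e, inv_mul_cancel]
      have h3 : y * x * y⁻¹ = z * (z⁻¹ * (y * x * y⁻¹)) := by group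
      rw [h3]
      exact mul_mem_sup hz h2
    obtain ⟨n, hn, hng⟩ := LocalCore.exists_mul_mem_normalizer s N P hNc hPs hg
    have hfy : f (n * y) = f y := by rw [map_mul, (hker n).2 hn, one_mul]
    have hty : ∃ j : ℕ, (n * y) ^ t ^ j = 1 := by
      have h1 : (n * y) ^ t ^ k ∈ N := by
        rw [← hker, map_pow, hfy, hk]
      obtain ⟨j, hj⟩ := hNt ⟨_, h1⟩
      refine ⟨k + j, ?_⟩
      rw [pow_add, pow_mul]
      exact congrArg Subtype.val hj
    have hcen := h.cen hs ht hst hPs hty hng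
    have h4 : f y ∈ Subgroup.centralizer (U : Set (G ⧸ N)) := by
      rw [mem_centralizer_iff]
      intro u hu
      rw [← hPU] at hu
      obtain ⟨x, hx, rfl⟩ := hu
      rw [← hfy, ← map_mul, ← map_mul, hcen x hx]
    have h5 : f y ∈ U := hcent h4
    obtain ⟨m, hm⟩ := hUp ⟨_, h5⟩
    have hm' : f y ^ s ^ m = 1 := congrArg Subtype.val hm
    rw [← hker]
    exact eq_one_of_coprime_pow hm' hk (Nat.Coprime.pow _ _ ((Nat.coprime_primes hs ht).2 hst))
  refine ⟨N, hNn, hNt, fun hd => ?_⟩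
  rw [Subgroup.index_eq_card] at hd
  obtain ⟨x, hx⟩ := exists_prime_orderOf_dvd_card' t hd
  obtain ⟨y, rfl⟩ := hfs' x
  have h1 : y ∈ N := key y ⟨1, by rw [pow_one, ← hx, pow_orderOf_eq_one]⟩
  rw [(hker y).2 h1, orderOf_one] at hx
  exact ht.ne_one hx.symm

section Rank

theorem nrm_pow' {y : G} {D : Subgroup G} (h : Nrm y D) (n : ℕ) : Nrm (y ^ n) D := by
  induction n with
  | zero => intro d hd; simpa using hd
  | succ n ih =>
    intro d hd
    have : y ^ (n + 1) * d * (y ^ (n + 1))⁻¹ = y * (y ^ n * d * (y ^ n)⁻¹) * y⁻¹ := by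
      rw [pow_succ']; group
    rw [this]
    exact h _ (ih d hd)

theorem mem_normalizer_of_nrm [Finite G] {y : G} {D : Subgroup G} (h : Nrm y D) : y ∈ normalizer (D : Set G) := by
  rw [mem_normalizer_iff]
  intro d
  refine ⟨h d, fun hd => ?_⟩
  have h1 : Nrm (y ^ (orderOf y - 1)) D := nrm_pow' h _
  have h2 : y ^ (orderOf y - 1) = y⁻¹ := by
    rw [eq_inv_iff_mul_eq_one, ← pow_succ, Nat.sub_add_cancel (orderOf_pos y), pow_orderOf_eq_one]
  rw [h2] at h1
  have h3 := h1 _ hd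
  rwa [show y⁻¹ * (y * d * y⁻¹) * y⁻¹⁻¹ = d by group] at h3

variable {y : G} {D : Subgroup G}

theorem ne_bot_of_minD [Finite G] (h : MinD s t y D) : D ≠ ⊥ := by
  obtain ⟨a, ha, hay⟩ := h.exists_ncomm
  intro h1
  rw [h1, mem_bot] at ha
  exact hay (by rw [ha, mul_one, one_mul])

/-- a proper invariant central subgroup containing the `s`-th powers and the commutators -/
theorem exists_frat [Finite G] (h : MinD s t y D) : ∃ K : Subgroup G, K < D ∧ Cen y K ∧
    (∀ x ∈ D, x ^ s ∈ K) ∧ (∀ a ∈ D, ∀ b ∈ D, a * b * a⁻¹ * b⁻¹ ∈ K) ∧ ∀ k ∈ K, ∀ d ∈ D, k * d = d * k := by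
  have hfs : Fact s.Prime := ⟨h.hs⟩
  obtain ⟨K, hKD, hA, hp, hc⟩ := CoprimeStab.exists_agemo_lt (H := D) (Subgroup.zpowers y) h.isPGroup
    (ne_bot_of_minD h) (by
      rw [zpowers_le]
      exact mem_normalizer_of_nrm h.nrm)
  have hn : Nrm y K := fun d hd => (mem_normalizer_iff.1 (hA (mem_zpowers y)) d).1 hd
  have hcm : ∀ a ∈ D, ∀ b ∈ D, a * b * a⁻¹ * b⁻¹ ∈ K := fun a ha b hb => by
    have := hc (commutator_mem_commutator ha hb)
    rwa [commutatorElement_def] at this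
  refine ⟨K, hKD, (h.hmin K hKD.le hn).resolve_left hKD.ne, hp, hcm, fun k hk d hd => ?_⟩
  refine h.central hKD.le hKD.ne hn (fun d hd n hn' => ?_) hk hd
  have h1 : d * n * d⁻¹ = (d * n * d⁻¹ * n⁻¹) * n := by group
  rw [h1]
  exact K.mul_mem (hcm d hd n (hKD.le hn')) hn'

/-- `D` has exponent `s` -/
theorem pow_eq_one_of_minD [Finite G] (h : MinD s t y D) (hs2 : s ≠ 2) {d : G} (hd : d ∈ D) : d ^ s = 1 := by
  obtain ⟨K, hKD, hcy, hp, hcm, hK⟩ := exists_frat h
  have hmul : ∀ a ∈ D, ∀ b ∈ D, (a * b) ^ s = a ^ s * b ^ s := by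
    intro a ha b hb
    refine CoprimeStab.mul_pow_prime_of_class_two h.hs hs2 ?_ ?_ ?_
    · rw [commutatorElement_def]
      exact hK _ (hcm b hb a ha) a ha
    · rw [commutatorElement_def]
      exact hK _ (hcm b hb a ha) b hb
    · exact hK _ (hp a ha) b hb
  let E : Subgroup G :=
    { carrier := {d | d ∈ D ∧ d ^ s = 1}
      one_mem' := ⟨D.one_mem, one_pow s⟩
      mul_mem' := fun {a b} ha hb => ⟨D.mul_mem ha.1 hb.1, by rw [hmul a ha.1 b hb.1, ha.2, hb.2, one_mul]⟩
      inv_mem' := fun {a} ha => ⟨D.inv_mem ha.1, by rw [inv_pow, ha.2, inv_one]⟩ }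
  have h1 : MinD.Cm y D ≤ E := by
    rw [MinD.Cm, Subgroup.closure_le]
    rintro _ ⟨d, hd, rfl⟩
    refine ⟨h.comm_mem hd, ?_⟩
    rw [hmul _ (h.nrm d hd) _ (D.inv_mem hd), conj_pow, inv_pow, hcy _ (hp d hd)]
    group
  rw [h.closure_eq] at h1
  exact (h1 hd).2

/-- proper subgroups of `s`-groups -/
theorem mul_card_le [Finite G] (hs : s.Prime) {A B : Subgroup G} (hB : IsPGroup s B) (h : A < B) :
    s * Nat.card A ≤ Nat.card B := by
  have hfs : Fact s.Prime := ⟨hs⟩
  have h1 := Subgroup.card_mul_index (A.subgroupOf B)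
  have h2 : Nat.card (A.subgroupOf B) = Nat.card A := Nat.card_congr (Subgroup.subgroupOfEquivOfLe h.le).toEquiv
  obtain ⟨n, hn⟩ := hB.index (A.subgroupOf B)
  rw [h2, hn] at h1
  have h3 : n ≠ 0 := by
    rintro rfl
    rw [pow_zero, Subgroup.index_eq_one, Subgroup.subgroupOf_eq_top] at hn
    exact absurd hn h.not_ge
  rw [← h1, mul_comm]
  exact Nat.mul_le_mul_left _ (Nat.le_self_pow h3 s)

theorem card_mul_relIndex {A B : Subgroup G} (h : A ≤ B) : Nat.card A * A.relIndex B = Nat.card B := by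
  have := Subgroup.relIndex_mul_relIndex (⊥ : Subgroup G) A B bot_le h
  simpa using this

/-- adjoining a commuting element -/
def adj (A : Subgroup G) (a : G) (h : ∀ b ∈ A, b * a = a * b) : Subgroup G where
  carrier := {x | ∃ b ∈ A, ∃ k : ℤ, x = b * a ^ k}
  one_mem' := ⟨1, A.one_mem, 0, by simp⟩
  mul_mem' := by
    rintro _ _ ⟨b, hb, k, rfl⟩ ⟨c, hc, l, rfl⟩
    refine ⟨b * c, A.mul_mem hb hc, k + l, ?_⟩
    have h1 : Commute (a ^ k) c := (Commute.zpow_left (show Commute a c from (h c hc).symm) k)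
    rw [zpow_add, mul_assoc, mul_assoc, ← mul_assoc (a ^ k), h1.eq, mul_assoc]
  inv_mem' := by
    rintro _ ⟨b, hb, k, rfl⟩
    refine ⟨b⁻¹, A.inv_mem hb, -k, ?_⟩
    have h1 : Commute (a ^ k) b := (Commute.zpow_left (show Commute a b from (h b hb).symm) k)
    rw [mul_inv_rev, zpow_neg, (h1.inv_inv).eq]

theorem le_adj {A : Subgroup G} {a : G} {h : ∀ b ∈ A, b * a = a * b} : A ≤ adj A a h :=
  fun b hb => ⟨b, hb, 0, by simp⟩

theorem self_mem_adj {A : Subgroup G} {a : G} {h : ∀ b ∈ A, b * a = a * b} : a ∈ adj A a h :=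
  ⟨1, A.one_mem, 1, by simp⟩

theorem adj_le {A B : Subgroup G} {a : G} {h : ∀ b ∈ A, b * a = a * b} (hA : A ≤ B) (ha : a ∈ B) : adj A a h ≤ B := by
  rintro _ ⟨b, hb, k, rfl⟩
  exact B.mul_mem (hA hb) (B.zpow_mem ha k)

theorem adj_comm {A : Subgroup G} {a : G} {h : ∀ b ∈ A, b * a = a * b} (hA : ∀ b ∈ A, ∀ c ∈ A, b * c = c * b) :
    ∀ x ∈ adj A a h, ∀ z ∈ adj A a h, x * z = z * x := by
  rintro _ ⟨b, hb, k, rfl⟩ _ ⟨c, hc, l, rfl⟩
  have h1 : Commute (b * a ^ k) (c * a ^ l) := by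
    have hb' : Commute b a := h b hb
    have hc' : Commute c a := h c hc
    have hbc : Commute b c := hA b hb c hc
    exact ((hbc.mul_right (hb'.zpow_right l))).mul_left
      ((hc'.symm.zpow_left k).mul_right (((Commute.refl a).zpow_left k).zpow_right l))
  exact h1.eq

theorem card_adj [Finite G] (hs : s.Prime) {A : Subgroup G} {a : G} {h : ∀ b ∈ A, b * a = a * b} (ha : a ∉ A)
    (hB : IsPGroup s (adj A a h)) : s * Nat.card A ≤ Nat.card (adj A a h) :=
  mul_card_le hs hB (lt_of_le_of_ne le_adj fun h1 => ha (h1 ▸ self_mem_adj))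

theorem not_modEq_one (hs2 : 2 < s) (hst : s < t) (ht : t.Prime) (hs : s.Prime) {n : ℕ} (hn : n = s ∨ n = s ^ 2)
    (h : n ≡ 1 [MOD t]) : False := by
  have h1 : (t : ℤ) ∣ (n : ℤ) - 1 := by
    have := (Nat.modEq_iff_dvd.1 h.symm)
    simpa using this
  rcases hn with rfl | rfl
  · have h2 := Int.le_of_dvd (by omega) h1
    omega
  · have h2 : (t : ℤ) ∣ ((s : ℤ) - 1) * ((s : ℤ) + 1) := by
      have e : ((s : ℤ) - 1) * ((s : ℤ) + 1) = ((s ^ 2 : ℕ) : ℤ) - 1 := by push_cast; ring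
      rwa [e]
    rcases (Nat.prime_iff_prime_int.1 ht).dvd_or_dvd h2 with h3 | h3
    · have := Int.le_of_dvd (by omega) h3
      omega
    · have h4 := Int.le_of_dvd (by omega) h3
      have h5 : t = s + 1 := by omega
      have h6 := hs.eq_two_or_odd'
      have h7 := ht.eq_two_or_odd'
      rcases h6 with h6 | ⟨a, ha⟩
      · omega
      · rcases h7 with h7 | ⟨b, hb⟩
        · omega
        · omega

/-- **`s`-rank at most two.** -/
theorem noMin_of_rank [Finite G] (hs2 : 2 < s) (hst : s < t) (hr : PRankLE s 2 G) : NoMin s t G := by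
  intro y D h
  have hs := h.hs
  have ht := h.ht
  have hfs : Fact s.Prime := ⟨h.hs⟩
  have hP := h.isPGroup
  have hexp : ∀ d ∈ D, d ^ s = 1 := fun d hd => pow_eq_one_of_minD h (by omega) hd
  -- abelian subgroups
  have hab : ∀ A : Subgroup G, A ≤ D → (∀ a ∈ A, ∀ b ∈ A, a * b = b * a) → Nat.card A ≤ s ^ 2 := by
    intro A hA hc
    exact hr A ⟨⟨fun a b => Subtype.ext (hc a a.2 b b.2)⟩⟩ fun a ha => hexp a (hA ha)
  obtain ⟨k, hk⟩ := (IsPGroup.iff_card).1 hP
  by_cases hcom : ∀ a ∈ D, ∀ b ∈ D, a * b = b * a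
  · -- abelian case
    have h1 := hab D le_rfl hcom
    rw [hk] at h1
    have hk2 : k ≤ 2 := (Nat.pow_le_pow_iff_right hs.one_lt).1 h1
    have h2 := h.relIndex_modEq (X := ⊥) (fun d hd => by
      rw [mem_bot] at hd ⊢
      rw [hd]; group) (fun a ha b hb => by
      rw [mem_bot, hcom a ha b hb]; group)
    rw [relIndex_bot_left, hk] at h2
    have hk0 : k ≠ 0 := by
      rintro rfl
      rw [pow_zero, Subgroup.card_eq_one] at hk
      exact ne_bot_of_minD h hk
    refine not_modEq_one hs2 hst ht hs (n := s ^ k) ?_ h2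
    have hk3 : k = 1 ∨ k = 2 := by omega
    rcases hk3 with rfl | rfl
    · left; rw [pow_one]
    · right; rfl
  · -- nonabelian case
    push Not at hcom
    obtain ⟨a, ha, b₀, hb₀, hab₀⟩ := hcom
    obtain ⟨K, hKD, hcy, hp, hcm, hK⟩ := exists_frat h
    set Z : Subgroup G := D ⊓ centralizer (D : Set G) with hZ
    have hZD : Z ≤ D := inf_le_left
    have hZc : ∀ z ∈ Z, ∀ d ∈ D, z * d = d * z := fun z hz d hd => (mem_centralizer_iff.1 hz.2 d hd).symm
    have hKZ : K ≤ Z := fun k hk => ⟨hKD.le hk, mem_centralizer_iff.2 fun d hd => (hK k hk d hd).symm⟩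
    have haZ : a ∉ Z := fun h1 => hab₀ (hZc a h1 b₀ hb₀)
    -- the center is not trivial
    have hZs : s ≤ Nat.card Z := by
      have h1 : (⊥ : Subgroup G) < Z := by
        rw [bot_lt_iff_ne_bot]
        intro h1
        have h2 := hKZ (hcm a ha b₀ hb₀)
        rw [h1, mem_bot] at h2
        apply hab₀
        have h3 : a * b₀ = (a * b₀ * a⁻¹ * b₀⁻¹) * (b₀ * a) := by group
        rw [h3, h2, one_mul]
      have h2 := mul_card_le hs (hP.to_le hZD) h1
      rwa [Subgroup.card_bot, mul_one] at h2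
    have hZa : ∀ z ∈ Z, z * a = a * z := fun z hz => hZc z hz a ha
    set E := adj Z a hZa with hE
    have hED : E ≤ D := adj_le hZD ha
    have hEc := adj_comm (h := hZa) fun z hz w hw => hZc z hz w (hZD hw)
    have hE1 := hab E hED hEc
    have hE2 := card_adj hs haZ (hP.to_le hED)
    have hZle : Nat.card Z ≤ s := by
      have h1 : s * Nat.card Z ≤ s * s := by
        calc s * Nat.card Z ≤ Nat.card E := hE2
          _ ≤ s ^ 2 := hE1
          _ = s * s := pow_two s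
      exact Nat.le_of_mul_le_mul_left h1 hs.pos
    -- the centraliser of `a` in `D`
    set C : Subgroup G := D ⊓ centralizer {a} with hC
    have hCE : C ≤ E := by
      intro b hb
      by_contra hbE
      have hba : b * a = a * b := mem_centralizer_singleton_iff.1 hb.2
      have hEb : ∀ e ∈ E, e * b = b * e := by
        rintro _ ⟨z, hz, k, rfl⟩
        have h1 : Commute z b := hZc z hz b hb.1
        have h2 : Commute a b := hba.symm
        exact (h1.mul_left (h2.zpow_left k)).eq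
      have h1 := card_adj hs (h := hEb) hbE (hP.to_le (adj_le hED hb.1))
      have h2 := hab (adj E b hEb) (adj_le hED hb.1) (adj_comm hEc)
      have h3 : s * (s * s) ≤ s ^ 2 := by
        calc s * (s * s) ≤ s * (s * Nat.card Z) := Nat.mul_le_mul_left _ (Nat.mul_le_mul_left _ hZs)
          _ ≤ s * Nat.card E := Nat.mul_le_mul_left _ hE2
          _ ≤ _ := h1
          _ ≤ _ := h2
      rw [pow_two] at h3
      have h4 : 1 * (s * s) < s * (s * s) := Nat.mul_lt_mul_of_pos_right hs.one_lt (Nat.mul_pos hs.pos hs.pos)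
      omega
    -- `|D : C| ≤ |Z|`
    let φ : D →* G :=
      { toFun := fun d => (d : G) * a * (d : G)⁻¹ * a⁻¹
        map_one' := by simp
        map_mul' := fun d e => by
          have h1 : (e : G) * a * (e : G)⁻¹ * a⁻¹ ∈ Z := hKZ (hcm e e.2 a ha)
          have h2 := hZc _ h1 d d.2
          have h3 : (d : G) * a * (d : G)⁻¹ * a⁻¹ ∈ Z := hKZ (hcm d d.2 a ha)
          show (d * e : G) * a * (d * e : G)⁻¹ * a⁻¹ = _
          calc (d * e : G) * a * (d * e : G)⁻¹ * a⁻¹ =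
              (d : G) * ((e : G) * a * (e : G)⁻¹ * a⁻¹) * a * (d : G)⁻¹ * a⁻¹ := by group
            _ = ((e : G) * a * (e : G)⁻¹ * a⁻¹) * (d : G) * a * (d : G)⁻¹ * a⁻¹ := by rw [h2]
            _ = ((e : G) * a * (e : G)⁻¹ * a⁻¹) * ((d : G) * a * (d : G)⁻¹ * a⁻¹) := by group
            _ = _ := hZc _ h1 _ (hZD h3) }
    have hker : φ.ker = C.subgroupOf D := by
      ext d
      rw [MonoidHom.mem_ker, mem_subgroupOf]
      constructor
      · intro h1
        have h2 : (d : G) * a * (d : G)⁻¹ * a⁻¹ = 1 := h1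
        refine ⟨d.2, mem_centralizer_singleton_iff.2 ?_⟩
        have h3 : (d : G) * a = ((d : G) * a * (d : G)⁻¹ * a⁻¹) * (a * d) := by group
        rw [h3, h2, one_mul]
      · intro h1
        show (d : G) * a * (d : G)⁻¹ * a⁻¹ = 1
        rw [mem_centralizer_singleton_iff.1 h1.2]
        group
    have hrange : φ.range ≤ Z := by
      rintro _ ⟨d, rfl⟩
      exact hKZ (hcm d d.2 a ha)
    have hidx : C.relIndex D ≤ s := by
      have h1 : C.relIndex D = Nat.card φ.range := by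
        rw [Subgroup.relIndex, ← hker, Subgroup.index_ker]
      rw [h1]
      exact (Subgroup.card_le_of_le hrange).trans hZle
    have hDcard : Nat.card D ≤ s * Nat.card E := by
      have h1 : Nat.card C * C.relIndex D = Nat.card D := card_mul_relIndex inf_le_left
      rw [← h1, mul_comm]
      exact Nat.mul_le_mul hidx (Subgroup.card_le_of_le hCE)
    have h1 : Nat.card Z * Z.relIndex D = Nat.card D := card_mul_relIndex hZD
    have h2 : Z.relIndex D ≤ s ^ 2 := by
      have h3 : s * Z.relIndex D ≤ s * s ^ 2 := by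
        calc s * Z.relIndex D ≤ Nat.card Z * Z.relIndex D := Nat.mul_le_mul_right _ hZs
          _ = Nat.card D := h1
          _ ≤ s * Nat.card E := hDcard
          _ ≤ s * s ^ 2 := Nat.mul_le_mul_left _ hE1
      exact Nat.le_of_mul_le_mul_left h3 hs.pos
    obtain ⟨m, hm⟩ : ∃ m, Z.relIndex D = s ^ m := by
      have := hP.index (Z.subgroupOf D)
      exact this
    have hZn : Nrm y Z := by
      rintro z hz
      have hy : y * z = z * y := h.cen_center ⟨a, ha, b₀, hb₀, hab₀⟩ hz.1 (hZc z hz)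
      rw [hy, mul_inv_cancel_right]
      exact hz
    have h3 := h.relIndex_modEq (X := Z) hZn fun a ha b hb => hKZ (hcm a ha b hb)
    rw [hm] at h3 h2
    have hm2 : m ≤ 2 := (Nat.pow_le_pow_iff_right hs.one_lt).1 h2
    have hm0 : m ≠ 0 := by
      rintro rfl
      rw [pow_zero, relIndex_eq_one] at hm
      exact haZ (hm ha)
    refine not_modEq_one hs2 hst ht hs (n := s ^ m) ?_ h3
    have hk3 : m = 1 ∨ m = 2 := by omega
    rcases hk3 with rfl | rfl
    · left; rw [pow_one]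
    · right; rfl

end Rank

end Cfsg.Agent.H565.NM
end

-- part: H565/TwF4Rank
section
prune_inst 0x2048404362000000000012d0003c56c6000590100b000111a000400c8ede610002af20e8000a020128a2a440310000000000798000000000000600411901a098a85604a33ca80cc60007801082000000000000000000000000000000041004000000000
set_option linter.all false
open scoped Cfsg.Agent.FastGrp

/-!
# The `3`-rank of `²F₄(q)` is two

* `exists_ab_pair` : an abelian subgroup of rank at most two from a pair of commuting subgroups;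
* `prankLE_of_index` : an abelian subgroup of rank two and index `p` in a Sylow subgroup;
* `prankLE_three_twF4` : `PRankLE 3 2 (²F₄(q))`.
-/

set_option autoImplicit false

namespace Cfsg.Agent.H565.F4R

open Subgroup Cfsg Cfsg.Agent.H795 Cfsg.Agent.H42.Tw Cfsg.Agent.Lib Cfsg.Agent.H565.NM

open scoped commutatorElement

universe u

variable {G : Type u} [Group G]

/-- **An abelian subgroup of rank at most two.** -/
theorem exists_ab_pair [Finite G] {p : ℕ} [hp : Fact p.Prime] (L M : Subgroup G) (s : G)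
    (hcomm : ∀ l ∈ L, ∀ m ∈ M, l * m = m * l) (hs1 : ∀ l ∈ L, s * l * s⁻¹ ∈ M)
    (hcyc : ∀ P : Subgroup G, P ≤ L → IsPGroup p P → IsCyclic P)
    (hq : ∀ K : Subgroup L, K.Normal → (∀ g : L, ∃ k : ℕ, g ^ p ^ k ∈ K) → K = ⊤) :
    ∃ D : Subgroup G, (∀ a ∈ D, ∀ b ∈ D, a * b = b * a) ∧ Nat.card D = p ^ (2 * (Nat.card L).factorization p) ∧
      ∀ E ≤ D, (∀ e ∈ E, e ^ p = 1) → Nat.card E ≤ p ^ 2 := by
  classical
  obtain ⟨P⟩ : Nonempty (Sylow p L) := inferInstance
  set PL : Subgroup G := (P : Subgroup L).map L.subtype with hPL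
  have hPLL : PL ≤ L := map_subtype_le _
  have hPLp : IsPGroup p PL := P.2.map _
  have hPLc : IsCyclic PL := hcyc PL hPLL hPLp
  have hcPL : Nat.card PL = p ^ (Nat.card L).factorization p := by
    rw [hPL, Nat.card_congr ((P : Subgroup L).equivMapOfInjective L.subtype L.subtype_injective).toEquiv.symm,
      Sylow.card_eq_multiplicity]
  by_cases hbot : (P : Subgroup L) = ⊥
  · -- `p` does not divide `|L|`
    have h1 : (Nat.card L).factorization p = 0 := by
      have h2 := Sylow.card_eq_multiplicity P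
      rw [hbot, card_bot] at h2
      by_contra h3
      exact absurd h2.symm (Nat.one_lt_pow h3 hp.out.one_lt).ne'
    refine ⟨⊥, fun a ha b hb => ?_, by rw [h1, card_bot, mul_zero, pow_zero], fun E hE _ => ?_⟩
    · rw [mem_bot] at ha hb
      rw [ha, hb]
    · rw [le_bot_iff.1 hE, card_bot]
      exact Nat.one_le_pow _ _ hp.out.pos
  have hPcomm : IsMulCommutative (P : Subgroup L) := by
    have : IsMulCommutative PL := IsCyclic.isMulCommutative
    exact isMulCommutative_of fun a ha b hb => Subtype.ext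
      (comm_of this (mem_map_of_mem L.subtype ha) (mem_map_of_mem L.subtype hb))
  obtain ⟨c, hc, z, hz, hzp, hcz⟩ := exists_moving P hPcomm hbot hq
  -- no element of order `p` of `PL` is centralised by `c`
  have hmove : ∀ x ∈ PL, x ^ p = 1 → (c : G) * x * (c : G)⁻¹ = x → x = 1 := by
    intro x hx hxp hcx
    by_contra hx1
    apply hcz
    apply Subtype.ext
    have h1 : (z : G) ∈ centralizer {(c : G)} := by
      refine mem_of_pow hPLc hx hxp hx1 (mem_map_of_mem L.subtype hz) (congrArg Subtype.val hzp) ?_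
      rw [mem_centralizer_singleton_iff]
      exact (mul_inv_eq_iff_eq_mul.1 hcx).symm
    rw [mem_centralizer_singleton_iff] at h1
    change (c : G) * z * (c : G)⁻¹ = z
    rw [← h1, mul_inv_cancel_right]
  -- `PL ∩ M = 1`
  have hinf : ∀ x ∈ PL, x ∈ M → x = 1 := by
    intro x hx hxM
    by_contra hx1
    obtain ⟨k, hk⟩ := hPLp ⟨x, hx⟩
    have hk' : x ^ p ^ k = 1 := congrArg Subtype.val hk
    have h1 : ∃ k : ℕ, x ^ p ^ k = 1 := ⟨k, hk'⟩
    have h2 := Nat.find_spec h1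
    have h3 : Nat.find h1 ≠ 0 := by
      intro h0
      rw [h0, pow_zero, pow_one] at h2
      exact hx1 h2
    have h4 := Nat.find_min h1 (m := Nat.find h1 - 1) (by omega)
    apply h4
    apply hmove _ (pow_mem hx _)
    · rw [← pow_mul, ← pow_succ, Nat.sub_add_cancel (Nat.one_le_iff_ne_zero.2 h3)]
      exact h2
    · rw [hcomm c c.2 _ (pow_mem hxM _), mul_inv_cancel_right]
  -- the second group
  set PM : Subgroup G := PL.map (MulAut.conj s).toMonoidHom with hPM
  have hPMM : PM ≤ M := by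
    rintro _ ⟨x, hx, rfl⟩
    exact hs1 x (hPLL hx)
  have hcommP : ∀ x ∈ PL, ∀ y ∈ PM, x * y = y * x := fun x hx y hy => hcomm x (hPLL hx) y (hPMM hy)
  let D : Subgroup G :=
    { carrier := {g | ∃ x ∈ PL, ∃ y ∈ PM, g = x * y}
      one_mem' := ⟨1, one_mem _, 1, one_mem _, by simp⟩
      mul_mem' := by
        rintro _ _ ⟨x, hx, y, hy, rfl⟩ ⟨x', hx', y', hy', rfl⟩
        refine ⟨x * x', mul_mem hx hx', y * y', mul_mem hy hy', ?_⟩
        calc x * y * (x' * y') = x * (y * x') * y' := by group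
          _ = x * (x' * y) * y' := by rw [hcommP x' hx' y hy]
          _ = x * x' * (y * y') := by group
      inv_mem' := by
        rintro _ ⟨x, hx, y, hy, rfl⟩
        refine ⟨x⁻¹, inv_mem hx, y⁻¹, inv_mem hy, ?_⟩
        rw [mul_inv_rev, hcommP x⁻¹ (inv_mem hx) y⁻¹ (inv_mem hy)] }
  have hPLcomm : ∀ a ∈ PL, ∀ b ∈ PL, a * b = b * a := fun a ha b hb =>
    comm_of (IsCyclic.isMulCommutative (α := PL)) ha hb
  have hPMcomm : ∀ a ∈ PM, ∀ b ∈ PM, a * b = b * a := by
    rintro _ ⟨a, ha, rfl⟩ _ ⟨b, hb, rfl⟩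
    rw [← map_mul, ← map_mul, hPLcomm a ha b hb]
  have hcardD : Nat.card D = Nat.card PL * Nat.card PM := by
    rw [← Nat.card_prod]
    symm
    refine Nat.card_eq_of_bijective (fun x : PL × PM => (⟨x.1 * x.2, x.1, x.1.2, x.2, x.2.2, rfl⟩ : D)) ⟨?_, ?_⟩
    · rintro ⟨⟨x, hx⟩, ⟨y, hy⟩⟩ ⟨⟨x', hx'⟩, ⟨y', hy'⟩⟩ h
      have h1 : x * y = x' * y' := congrArg Subtype.val h
      have h2 : x'⁻¹ * x = y' * y⁻¹ := by
        rw [eq_mul_inv_iff_mul_eq, mul_assoc, h1, inv_mul_cancel_left]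
      have h3 : x'⁻¹ * x = 1 := hinf _ (mul_mem (inv_mem hx') hx) (by
        rw [h2]; exact mul_mem (hPMM hy') (inv_mem (hPMM hy)))
      have h4 : x = x' := (inv_mul_eq_one.1 h3).symm
      subst h4
      have h5 : y = y' := mul_left_cancel h1
      subst h5
      rfl
    · rintro ⟨g, x, hx, y, hy, rfl⟩
      exact ⟨(⟨x, hx⟩, ⟨y, hy⟩), rfl⟩
  have hcPM : Nat.card PM = Nat.card PL :=
    (Nat.card_congr (PL.equivMapOfInjective _ (MulAut.conj s).injective).toEquiv).symm
  have hPMc : IsCyclic PM := by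
    have e := PL.equivMapOfInjective (MulAut.conj s).toMonoidHom (MulAut.conj s).injective
    exact isCyclic_of_surjective e.toMonoidHom e.surjective
  refine ⟨D, ?_, by rw [hcardD, hcPM, hcPL, ← pow_add, two_mul], fun E hE hEp => ?_⟩
  · rintro _ ⟨x, hx, y, hy, rfl⟩ _ ⟨x', hx', y', hy', rfl⟩
    have e1 := hcommP x' hx' y hy
    have e2 := hcommP x hx y' hy'
    calc x * y * (x' * y') = x * (y * x') * y' := by group
      _ = x * (x' * y) * y' := by rw [e1]
      _ = (x * x') * (y * y') := by group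
      _ = (x' * x) * (y' * y) := by rw [hPLcomm x hx x' hx', hPMcomm y hy y' hy']
      _ = x' * (x * y') * y := by group
      _ = x' * (y' * x) * y := by rw [e2]
      _ = _ := by group
  · -- the elements of order `p` of the cyclic factors
    have hbd : ∀ C : Subgroup G, IsCyclic C → Nat.card {x : C // x ^ p = 1} ≤ p := by
      intro C hC
      have := Fintype.ofFinite C
      have h1 := IsCyclic.card_pow_eq_one_le (α := C) (n := p) hp.out.pos
      rw [Nat.card_eq_fintype_card, Fintype.card_subtype]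
      exact h1
    have hdec : ∀ e : E, ∃ w : {x : PL // x ^ p = 1} × {x : PM // x ^ p = 1},
        ((w.1.1 : PL) : G) * ((w.2.1 : PM) : G) = e := by
      rintro ⟨e, he⟩
      obtain ⟨x, hx, y, hy, rfl⟩ := hE he
      have hxy' : x ^ p * y ^ p = 1 := by
        have hxy := hEp _ he
        rwa [(show Commute x y from hcommP x hx y hy).mul_pow] at hxy
      have hxp : x ^ p = 1 := by
        apply hinf _ (pow_mem hx p)
        rw [eq_inv_of_mul_eq_one_left hxy']
        exact inv_mem (pow_mem (hPMM hy) p)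
      have hyp : y ^ p = 1 := by rwa [hxp, one_mul] at hxy'
      exact ⟨⟨⟨⟨x, hx⟩, Subtype.ext hxp⟩, ⟨⟨y, hy⟩, Subtype.ext hyp⟩⟩, rfl⟩
    choose f hf using hdec
    have hinj : Function.Injective f := fun a b hab => Subtype.ext (by rw [← hf a, ← hf b, hab])
    calc Nat.card E ≤ Nat.card ({x : PL // x ^ p = 1} × {x : PM // x ^ p = 1}) :=
        Nat.card_le_card_of_injective f hinj
      _ = Nat.card {x : PL // x ^ p = 1} * Nat.card {x : PM // x ^ p = 1} := Nat.card_prod _ _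
      _ ≤ p * p := Nat.mul_le_mul (hbd _ hPLc) (hbd _ hPMc)
      _ = p ^ 2 := (pow_two p).symm

/-- a subgroup of index dividing `p` in a `p`-group is normal -/
theorem normal_of_index_dvd {S : Type*} [Group S] [Finite S] {p : ℕ} [hp : Fact p.Prime] (hS : IsPGroup p S)
    {H : Subgroup S} (h : H.index ∣ p) : H.Normal := by
  rcases (Nat.dvd_prime hp.out).1 h with h1 | h1
  · rw [index_eq_one] at h1
    rw [h1]
    infer_instance
  · apply normal_of_index_eq_minFac_card
    obtain ⟨n, hn⟩ := IsPGroup.iff_card.1 hS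
    have hn0 : n ≠ 0 := by
      rintro rfl
      have h2 := H.index_dvd_card
      rw [hn, h1, pow_zero] at h2
      exact hp.out.one_lt.ne' (Nat.dvd_one.1 h2)
    rw [h1, hn, hp.out.pow_minFac hn0]

theorem pow_class_two {p : ℕ} (hp : p.Prime) (hp2 : p ≠ 2) {x y z : G} (hx : x ^ p = 1) (hy : y ^ p = 1)
    (hzx : z * x = x * z) (hzy : z * y = y * z) (hxy : x * y = z * (y * x)) (i : ℤ) : (x ^ i * y) ^ p = 1 := by
  have e0 : y * x * y⁻¹ = z⁻¹ * x := by
    have : y * x = z⁻¹ * (x * y) := by rw [hxy]; group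
    rw [this]; group
  have e1 : ⁅y, x ^ i⁆ = (z⁻¹) ^ i := by
    have h1 : y * x ^ i * y⁻¹ = (y * x * y⁻¹) ^ i := (conj_zpow).symm
    have h2 : Commute z⁻¹ x := (show Commute z x from hzx).inv_left
    rw [commutatorElement_def, h1, e0, h2.mul_zpow, mul_inv_cancel_right]
  have hzx' : Commute ((z⁻¹) ^ i) x := (show Commute z x from hzx).inv_left.zpow_left i
  have hzy' : Commute ((z⁻¹) ^ i) y := (show Commute z y from hzy).inv_left.zpow_left i
  have e2 : (x ^ i) ^ p = 1 := by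
    rw [← zpow_natCast, ← zpow_mul, mul_comm, zpow_mul, zpow_natCast, hx, one_zpow]
  rw [CoprimeStab.mul_pow_prime_of_class_two hp hp2 (x := x ^ i) (y := y) (by
    rw [e1]; exact hzx'.zpow_right i) (by rw [e1]; exact hzy') (by rw [e2]; exact Commute.one_left y), e2, hy,
    one_mul]

/-- **An abelian subgroup of rank two and index `p` in a nonabelian Sylow subgroup.** -/
theorem prankLE_of_index [Finite G] {p : ℕ} [hp : Fact p.Prime] (hp2 : p ≠ 2) {D : Subgroup G} {n : ℕ}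
    (hab : ∀ a ∈ D, ∀ b ∈ D, a * b = b * a) (hD : Nat.card D = p ^ n)
    (hG : (Nat.card G).factorization p ≤ n + 1) (hr : ∀ E ≤ D, (∀ e ∈ E, e ^ p = 1) → Nat.card E ≤ p ^ 2)
    {x y z : G} (hx : x ^ p = 1) (hy : y ^ p = 1) (hzx : z * x = x * z) (hzy : z * y = y * z)
    (hxy : x * y = z * (y * x)) (hz : z ≠ 1) : PRankLE p 2 G := by
  classical
  have hDp : IsPGroup p D := IsPGroup.of_card hD
  obtain ⟨S, hDS⟩ := hDp.exists_le_sylow
  obtain ⟨P, hP, hxP, hyP⟩ := exists_pgroup (p := p) hx hy hzx hzy hxy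
  obtain ⟨Q, hQ⟩ := hP.exists_le_sylow
  obtain ⟨g, hg⟩ := MulAction.exists_smul_eq G Q S
  have hmem : ∀ x ∈ P, g * x * g⁻¹ ∈ (S : Subgroup G) := by
    intro x hx
    rw [← hg, Sylow.coe_subgroup_smul]
    exact Subgroup.smul_mem_pointwise_smul x (MulAut.conj g) (Q : Subgroup G) (hQ hx)
  -- the index
  have hidx : D.relIndex S ∣ p := by
    have h1 := card_mul_relIndex hDS
    rw [hD, Sylow.card_eq_multiplicity] at h1
    obtain ⟨m, hm⟩ := S.2.index (D.subgroupOf S)
    change D.relIndex S = p ^ m at hm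
    rw [hm, ← pow_add] at h1
    have h2 := Nat.pow_right_injective hp.out.two_le h1
    rw [hm]
    have h3 : m ≤ 1 := by omega
    calc p ^ m ∣ p ^ 1 := pow_dvd_pow p h3
      _ = p := pow_one p
  -- reduction to subgroups of `S`
  have key : ∀ E ≤ (S : Subgroup G), (∀ a ∈ E, ∀ b ∈ E, a * b = b * a) → (∀ e ∈ E, e ^ p = 1) →
      Nat.card E ≤ p ^ 2 := by
    intro E hES hEab hEp
    by_contra hcon
    push Not at hcon
    have hEpg : IsPGroup p E := S.2.to_le hES
    -- `|E ∩ D| = p ^ 2`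
    have h1 : (D ⊓ E).relIndex E ≤ p := by
      rw [inf_relIndex_right]
      exact (relIndex_le_of_le_right hES index_ne_zero_of_finite).trans (Nat.le_of_dvd hp.out.pos hidx)
    have h2 := card_mul_relIndex (A := D ⊓ E) (B := E) inf_le_right
    have h3 : Nat.card (D ⊓ E : Subgroup G) ≤ p ^ 2 := hr _ inf_le_left fun e he => hEp e he.2
    have h4 : p ^ 2 ≤ Nat.card (D ⊓ E : Subgroup G) := by
      obtain ⟨k, hk⟩ := IsPGroup.iff_card.1 hEpg
      rw [hk] at hcon
      have h5 : 2 < k := (Nat.pow_lt_pow_iff_right hp.out.one_lt).1 hcon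
      have h6 : p ^ 2 * p ≤ Nat.card (D ⊓ E : Subgroup G) * p := by
        calc p ^ 2 * p = p ^ 3 := (pow_succ p 2).symm
          _ ≤ p ^ k := Nat.pow_le_pow_right hp.out.pos h5
          _ = Nat.card (D ⊓ E : Subgroup G) * (D ⊓ E).relIndex E := by rw [h2, hk]
          _ ≤ _ := Nat.mul_le_mul_left _ h1
      exact Nat.le_of_mul_le_mul_right h6 hp.out.pos
    -- the elements of order `p` of `D`
    let Om : Subgroup G :=
      { carrier := {d | d ∈ D ∧ d ^ p = 1}
        one_mem' := ⟨D.one_mem, one_pow p⟩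
        mul_mem' := fun {a b} ha hb => ⟨D.mul_mem ha.1 hb.1, by
          rw [(show Commute a b from hab a ha.1 b hb.1).mul_pow, ha.2, hb.2, one_mul]⟩
        inv_mem' := fun {a} ha => ⟨D.inv_mem ha.1, by rw [inv_pow, ha.2, inv_one]⟩ }
    have hOm : Om = D ⊓ E := by
      symm
      apply Subgroup.eq_of_le_of_card_ge
      · intro e he
        exact ⟨he.1, hEp e he.2⟩
      · exact (hr Om (fun e he => he.1) fun e he => he.2).trans h4
    have hEnD : ¬ E ≤ D := by
      intro h5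
      rw [inf_eq_right.2 h5] at h3
      omega
    -- `D` and `E` generate `S`
    have hsup : (S : Subgroup G) ≤ D ⊔ E := by
      have h5 : D.relIndex (D ⊔ E) * (D ⊔ E).relIndex S ∣ p := by
        rw [Subgroup.relIndex_mul_relIndex _ _ _ le_sup_left (sup_le hDS hES)]
        exact hidx
      rcases (Nat.dvd_prime hp.out).1 ((Dvd.intro _ rfl).trans h5) with h6 | h6
      · exact absurd (le_sup_right.trans (relIndex_eq_one.1 h6)) hEnD
      · rw [h6] at h5
        have h7 : (D ⊔ E).relIndex S ∣ 1 := by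
          rw [← Nat.mul_dvd_mul_iff_left hp.out.pos, mul_one]
          exact h5
        exact relIndex_eq_one.1 (Nat.dvd_one.1 h7)
    have hcen : ∀ d ∈ D, d ^ p = 1 → ∀ a ∈ (S : Subgroup G), a * d = d * a := by
      intro d hd hdp a ha
      have h5 : d ∈ D ⊓ E := by rw [← hOm]; exact ⟨hd, hdp⟩
      have h6 : D ⊔ E ≤ centralizer {d} := sup_le
        (fun b hb => mem_centralizer_singleton_iff.2 (hab b hb d hd))
        (fun b hb => mem_centralizer_singleton_iff.2 (hEab b hb d h5.2))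
      exact mem_centralizer_singleton_iff.1 (h6 (hsup ha))
    -- the nonabelian subgroup
    set x' := g * x * g⁻¹ with hx'
    set y' := g * y * g⁻¹ with hy'
    set z' := g * z * g⁻¹ with hz'
    have hx'p : x' ^ p = 1 := by rw [hx', conj_pow, hx]; group
    have hy'p : y' ^ p = 1 := by rw [hy', conj_pow, hy]; group
    have hzx' : z' * x' = x' * z' := by
      calc z' * x' = g * (z * x) * g⁻¹ := by rw [hz', hx']; group
        _ = g * (x * z) * g⁻¹ := by rw [hzx]
        _ = _ := by rw [hz', hx']; group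
    have hzy' : z' * y' = y' * z' := by
      calc z' * y' = g * (z * y) * g⁻¹ := by rw [hz', hy']; group
        _ = g * (y * z) * g⁻¹ := by rw [hzy]
        _ = _ := by rw [hz', hy']; group
    have hxy' : x' * y' = z' * (y' * x') := by
      calc x' * y' = g * (x * y) * g⁻¹ := by rw [hx', hy']; group
        _ = g * (z * (y * x)) * g⁻¹ := by rw [hxy]
        _ = _ := by rw [hz', hx', hy']; group
    have hz'1 : z' ≠ 1 := by
      intro h5
      apply hz
      have : z = g⁻¹ * z' * g := by rw [hz']; group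
      rw [this, h5]; group
    have hx'S : x' ∈ (S : Subgroup G) := hmem x hxP
    have hy'S : y' ∈ (S : Subgroup G) := hmem y hyP
    have hncom : ¬ x' * y' = y' * x' := by
      intro h5
      rw [hxy'] at h5
      exact hz'1 (mul_eq_right.1 h5)
    have hx'D : x' ∉ D := fun h5 => hncom (hcen x' h5 hx'p y' hy'S).symm
    -- the quotient
    have hnor : (D.subgroupOf S).Normal := normal_of_index_dvd S.2 hidx
    have hcq : Nat.card (↥(S : Subgroup G) ⧸ D.subgroupOf S) = p := by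
      rw [← index_eq_card]
      rcases (Nat.dvd_prime hp.out).1 hidx with h5 | h5
      · exact absurd (relIndex_eq_one.1 h5 hx'S) hx'D
      · exact h5
    have h5 : (QuotientGroup.mk (⟨y', hy'S⟩ : (S : Subgroup G)) : ↥(S : Subgroup G) ⧸ D.subgroupOf S) ∈
        zpowers (QuotientGroup.mk (⟨x', hx'S⟩ : (S : Subgroup G)) : ↥(S : Subgroup G) ⧸ D.subgroupOf S) := by
      apply mem_zpowers_of_prime_card hcq
      intro h6
      rw [QuotientGroup.eq_one_iff] at h6
      exact hx'D h6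
    obtain ⟨i, hi⟩ := mem_zpowers_iff.1 h5
    rw [← QuotientGroup.mk_zpow, QuotientGroup.eq] at hi
    have h6 : x' ^ (-i) * y' ∈ D := by
      have h7 : ((⟨x', hx'S⟩ : (S : Subgroup G)) ^ i)⁻¹ * ⟨y', hy'S⟩ ∈ D.subgroupOf S := hi
      rw [mem_subgroupOf] at h7
      rw [zpow_neg]
      exact h7
    have h7 := hcen _ h6 (pow_class_two hp.out hp2 hx'p hy'p hzx' hzy' hxy' (-i)) x' hx'S
    apply hncom
    have h8 : Commute x' (x' ^ (-i)) := (Commute.refl x').zpow_right (-i)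
    have h9 : x' ^ (-i) * (x' * y') = x' ^ (-i) * (y' * x') := by
      calc x' ^ (-i) * (x' * y') = (x' ^ (-i) * x') * y' := by group
        _ = (x' * x' ^ (-i)) * y' := by rw [h8.eq]
        _ = x' * (x' ^ (-i) * y') := by group
        _ = (x' ^ (-i) * y') * x' := h7
        _ = _ := by group
    exact mul_left_cancel h9
  intro E hE hEp
  have hEpg : IsPGroup p E := fun e => ⟨1, by rw [pow_one]; exact Subtype.ext (hEp e e.2)⟩
  obtain ⟨R, hR⟩ := hEpg.exists_le_sylow
  obtain ⟨c, hc⟩ := MulAction.exists_smul_eq G R S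
  have h1 := key (E.map (MulAut.conj c).toMonoidHom) (by
    rintro _ ⟨e, he, rfl⟩
    rw [← hc, Sylow.coe_subgroup_smul]
    exact Subgroup.smul_mem_pointwise_smul e (MulAut.conj c) (R : Subgroup G) (hR he)) (by
    rintro _ ⟨a, ha, rfl⟩ _ ⟨b, hb, rfl⟩
    rw [← map_mul, ← map_mul, comm_of hE ha hb]) (by
    rintro _ ⟨a, ha, rfl⟩
    rw [← map_pow, hEp a ha, map_one])
  rwa [Subgroup.card_map_of_injective (MulAut.conj c).injective] at h1

/-- small Sylow subgroups -/
theorem prankLE_of_nonab [Finite G] {p : ℕ} [hp : Fact p.Prime] (hG : (Nat.card G).factorization p ≤ 3)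
    (hS : ∀ S : Sylow p G, ¬ IsMulCommutative (S : Subgroup G)) : PRankLE p 2 G := by
  intro E hE hEp
  by_contra hcon
  push Not at hcon
  have hEpg : IsPGroup p E := fun e => ⟨1, by rw [pow_one]; exact Subtype.ext (hEp e e.2)⟩
  obtain ⟨k, hk⟩ := IsPGroup.iff_card.1 hEpg
  rw [hk] at hcon
  have h1 : 2 < k := (Nat.pow_lt_pow_iff_right hp.out.one_lt).1 hcon
  have h2 : k ≤ (Nat.card G).factorization p := by
    rw [← hp.out.pow_dvd_iff_le_factorization Nat.card_pos.ne', ← hk]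
    exact card_subgroup_dvd_card E
  have h3 : k = (Nat.card G).factorization p := by omega
  exact hS (Sylow.ofCard E (by rw [hk, h3])) hE

theorem fact_sq_mul' {p n a b : ℕ} (hp : p.Prime) (hn : n = a ^ 2 * (p * b)) (ha : a ≠ 0) (hb : ¬ p ∣ b) :
    n.factorization p = 2 * a.factorization p + 1 := by
  subst hn
  have hb0 : b ≠ 0 := by
    rintro rfl
    exact hb (dvd_zero p)
  rw [Nat.factorization_mul (pow_ne_zero 2 ha) (mul_ne_zero hp.ne_zero hb0), Nat.factorization_pow, Finsupp.add_apply,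
    Finsupp.smul_apply, Nat.factorization_mul hp.ne_zero hb0, Finsupp.add_apply,
    Nat.factorization_eq_zero_of_not_dvd hb, hp.factorization_self, smul_eq_mul]

theorem fact_three {m : ℕ} : (ord (2 ^ (2 * m + 1))).factorization 3 = 2 * (2 ^ (2 * m + 1) + 1).factorization 3 + 1 := by
  obtain ⟨j, hj⟩ : ∃ j, 2 ^ (2 * m + 1) = 3 * j + 2 := by
    induction m with
    | zero => exact ⟨0, by norm_num⟩
    | succ m ih =>
      obtain ⟨j, hj⟩ := ih
      refine ⟨4 * j + 2, ?_⟩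
      rw [show 2 * (m + 1) + 1 = (2 * m + 1) + 2 by ring, pow_add, hj]
      ring
  rw [hj]
  have e : ord (3 * j + 2) = (3 * j + 2 + 1) ^ 2 * (3 * ((3 * j + 2) ^ 12 * (3 * j + 1) * (3 * j + 1) *
      (1 + 3 * j + 3 * j ^ 2) * ((3 * j + 2) ^ 2 + 1) * ((3 * j + 2) ^ 6 + 1))) := by
    rw [show 3 * j + 2 = (3 * j + 1) + 1 by ring, ord, pow_four, Nat.add_sub_cancel]
    ring
  refine fact_sq_mul' Nat.prime_three e (by omega) ?_
  refine not_dvd_of_cast ?_
  push_cast
  have h3 : (3 : ZMod 3) = 0 := by decide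
  rw [h3]
  simp only [zero_mul, zero_add]
  decide

section Tw

variable {K : Type u} [Field K] [Fintype K] {m : ℕ} (hK : Fintype.card K = 2 ^ (2 * m + 1))

include hK

theorem exists_nonab_three : ∃ x y z : ↥(Lie.twistedF4 K (2 ^ m)), x ^ 3 = 1 ∧ y ^ 3 = 1 ∧ z * x = x * z ∧
    z * y = y * z ∧ x * y = z * (y * x) ∧ z ≠ 1 := by
  have hch := Cfsg.Agent.ChevalleyStructure.TwF4.Twisted.charP_two hK
  obtain ⟨x, y, z, hx, hy, hzx, hzy, hxy, hz1⟩ := exists_three
  set f := ZMod.castHom (dvd_refl 2) K with hf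
  let j : ↥(Lie.twistedF4 (ZMod 2) 1) →* ↥(Lie.twistedF4 K (2 ^ m)) :=
    ((glF (ZMod 2) K f).comp (Lie.twistedF4 (ZMod 2) 1).subtype).codRestrict (Lie.twistedF4 K (2 ^ m))
      fun g => glF_mem K (by positivity) g.2
  have hj : Function.Injective j := fun a b hab => Subtype.ext (glF_injective _ _ _ (congrArg Subtype.val hab))
  refine ⟨j x, j y, j z, by rw [← map_pow, hx, map_one], by rw [← map_pow, hy, map_one],
    by rw [← map_mul, hzx, map_mul], by rw [← map_mul, hzy, map_mul], by rw [← map_mul, hxy, map_mul, map_mul],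
    fun h => hz1 (hj (by rw [h, map_one]))⟩

/-- **The `3`-rank of `²F₄(q)` is two.** -/
theorem prankLE_three_twF4 : PRankLE 3 2 ↥(Lie.twistedF4 K (2 ^ m)) := by
  have hch := Cfsg.Agent.ChevalleyStructure.TwF4.Twisted.charP_two hK
  have hp : Fact (Nat.Prime 3) := ⟨Nat.prime_three⟩
  have hfin := finite_tw (K := K) (2 ^ m)
  have hq : Nat.card K = 2 ^ (2 * m + 1) := by rw [Nat.card_eq_fintype_card, hK]
  have hcard : Nat.card ↥(Lie.twistedF4 K (2 ^ m)) = ord (2 ^ (2 * m + 1)) := Cfsg.Agent.S1068.result hK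
  rcases Nat.eq_zero_or_pos m with hm | hm
  · apply prankLE_of_nonab
    · rw [hcard, fact_three, hm]
      have h1 : (2 ^ (2 * 0 + 1) + 1).factorization 3 = 1 := Nat.Prime.factorization_self Nat.prime_three
      rw [h1]
    · exact fun S => not_abelian_three K (by positivity) S
  have hF := exists_unit hm hK
  obtain ⟨φ, hφ⟩ := Cfsg.Agent.ChevalleyStructure.TwF4.TwistedFix.exists_rln hK
  set S := Cfsg.Agent.KFacts.TwF4.Inst.full hK hφ with hS
  have hmod : 2 ^ (2 * m + 1) % 3 = 2 := by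
    rw [pow_succ, pow_mul, Nat.mul_mod, Nat.pow_mod]
    norm_num
  have hpm : ¬ 3 ∣ Nat.card K - 1 := by rw [hq]; omega
  obtain ⟨D, hab, hD, hr⟩ := exists_ab_pair (p := 3) (S.XZ 1 ⊔ S.XZ (1 + 8)) (S.XZ (1 + 4) ⊔ S.XZ (1 + 4 + 8))
    (S.rot ^ (2 : ℤ)) (fun l hl m hm => comm_LM S hl hm) (fun l hl => rot_sup S hl)
    (fun P hP hPp => cyc S hF rfl (by norm_num) hpm P hP hPp) (fun K hK h => noquot S rfl (by norm_num) K hK h)
  obtain ⟨x, y, z, hx, hy, hzx, hzy, hxy, hz1⟩ := exists_nonab_three hK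
  refine prankLE_of_index (by norm_num) hab hD ?_ hr hx hy hzx hzy hxy hz1
  rw [hcard, fact_three]
  refine Nat.add_le_add_right (Nat.mul_le_mul_left 2 ?_) 1
  have hne : S.XZ 1 ≠ S.XZ (1 + 8) := by
    intro h
    obtain ⟨x, hx, hx1⟩ := S.zsys8.exists_ne 1
    exact hx1 (S.X_inf_opp hx (h ▸ hx))
  have h1 := card_succ_dvd S.zsys8 hne
  have h2 : Nat.card (S.XZ 1) = 2 ^ (2 * m + 1) := by
    have := card_odd S 0
    rw [show (2 : ℤ) * 0 + 1 = 1 by ring] at this
    rw [this, hq]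
  rw [h2] at h1
  exact (Nat.factorization_le_iff_dvd (by omega) Nat.card_pos.ne').2 h1 3

end Tw

end Cfsg.Agent.H565.F4R
end
end
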