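import Cfsg.Agent.J4Type.FusionM22
import Cfsg.Agent.SporadicStructure.OctadStabM24
import Cfsg.Agent.S0363
import Cfsg.Prelude.Def_Spor_Mathieu
import Cfsg.Agent.Prune
set_option linter.all false
prune_inst 0x7f00000000000000000000000000000000000000000000000000000000000000000000000000000000000000000000000000000000000000000000000000000000000000000000000000000000000000003fffffffffffffffffffffffffffbeffbdffffffff
open scoped Cfsg.Agent.FastGrp

/-!
# Fixed points of the elements of prime order of `M23` (helper565)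

`Fix.fix_le`: an element of prime order 2, 3, 5, 7, 11, 23 of `M23` fixes at least 8, 6, 4, 3, 2, 1 of
the 24 points. The case of order three is the argument of `CpAutCoTwo.Gol.card_Fx`.
-/

set_option autoImplicit false

namespace Cfsg.Agent.H565.Fix

open Cfsg
open scoped Pointwise

/-- the fixed points -/
def Fx (σ : Equiv.Perm GolayPt) : Finset GolayPt := Finset.univ.filter fun i => σ i = i

theorem mem_Fx {σ : Equiv.Perm GolayPt} {i : GolayPt} : i ∈ Fx σ ↔ σ i = i := by
  unfold Fx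
  rw [Finset.mem_filter]
  exact ⟨fun h => h.2, fun h => ⟨Finset.mem_univ i, h⟩⟩

section

variable {σ : Equiv.Perm GolayPt} (h3 : ∀ x, σ (σ (σ x)) = x)

include h3

theorem card_mod {X : Finset GolayPt} (hX : ∀ p ∈ X, σ p ∈ X) : X.card ≡ (X ∩ Fx σ).card [MOD 3] := by
  classical
  let τ : Function.End ↥X := fun p => ⟨σ p, hX p p.2⟩
  have hτ : τ ^ 3 ^ 1 = 1 := by
    funext p
    exact Subtype.ext (h3 p)
  have : Fact (Nat.Prime 3) := ⟨Nat.prime_three⟩
  have h2 := Equiv.Perm.card_fixedPoints_modEq (p := 3) (n := 1) hτ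
  have h4 : Fintype.card (Function.fixedPoints τ) = (X ∩ Fx σ).card := by
    rw [← Fintype.card_coe (X ∩ Fx σ)]
    refine Fintype.card_congr ⟨fun p => ⟨(p : ↥X), ?_⟩, fun p => ⟨⟨p, (Finset.mem_inter.1 p.2).1⟩, ?_⟩, fun p => ?_,
      fun p => ?_⟩
    · rw [Finset.mem_inter, mem_Fx]
      exact ⟨(p : ↥X).2, congrArg Subtype.val p.2⟩
    · exact Subtype.ext (mem_Fx.1 (Finset.mem_inter.1 p.2).2)
    · rfl
    · rfl
  rw [h4, Fintype.card_coe] at h2
  exact h2

omit h3 in
theorem inv_of_five (hσ : σ ∈ M24) {O s : Finset GolayPt} (hO : O ∈ octads) (hs : s ⊆ O) (h5 : 5 ≤ s.card)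
    (h : ∀ z ∈ s, σ z ∈ O) : ∀ p ∈ O, σ p ∈ O := by
  have h1 : σ • O = O := Cfsg.Agent.SporadicStructure.OctadStabM24.smul_octad_eq hσ hO hs h5 h
  intro p hp
  have h2 : σ • p ∈ σ • O := Finset.smul_mem_smul_finset hp
  rw [h1] at h2
  exact h2

/-- the five points `a, b, p, σ p, σ² p` -/
theorem five_points {a b p : GolayPt} (hab : a ≠ b) (ha : σ a = a) (hb : σ b = b) (hp : σ p ≠ p) :
    ({a, b, p, σ p, σ (σ p)} : Finset GolayPt).card = 5 := by
  have h1 : σ (σ p) ≠ p := by
    intro h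
    apply hp
    have h2 := h3 p
    rw [h] at h2
    exact h2
  have h2 : σ (σ p) ≠ σ p := fun h => hp (σ.injective h)
  have key : ∀ c : GolayPt, σ c = c → c ≠ p ∧ c ≠ σ p ∧ c ≠ σ (σ p) := by
    intro c hc
    refine ⟨?_, ?_, ?_⟩
    · rintro rfl
      exact hp hc
    · intro h
      apply hp
      apply σ.injective
      rw [← h, hc, h]
    · intro h
      apply h2
      apply σ.injective
      rw [← h, hc, h]
  obtain ⟨a1, a2, a3⟩ := key a ha
  obtain ⟨b1, b2, b3⟩ := key b hb
  rw [Finset.card_insert_of_notMem, Finset.card_insert_of_notMem, Finset.card_insert_of_notMem,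
    Finset.card_insert_of_notMem, Finset.card_singleton]
  · rw [Finset.mem_singleton]
    exact h2.symm
  · simp only [Finset.mem_insert, Finset.mem_singleton, not_or]
    exact ⟨Ne.symm hp, h1.symm⟩
  · simp only [Finset.mem_insert, Finset.mem_singleton, not_or]
    exact ⟨b1, b2, b3⟩
  · simp only [Finset.mem_insert, Finset.mem_singleton, not_or]
    exact ⟨hab, a1, a2, a3⟩

/-- **At least six fixed points.** -/
theorem six_le (hσ : σ ∈ M24) {a : GolayPt} (ha : σ a = a) : 6 ≤ (Fx σ).card := by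
  classical
  have hmod := card_mod h3 (X := Finset.univ) (fun _ _ => Finset.mem_univ _)
  rw [Finset.univ_inter, Finset.card_univ, show Fintype.card GolayPt = 24 from rfl] at hmod
  have hpos : 0 < (Fx σ).card := Finset.card_pos.2 ⟨a, mem_Fx.2 ha⟩
  have h36 : (Fx σ).card = 3 ∨ 6 ≤ (Fx σ).card := by
    unfold Nat.ModEq at hmod
    omega
  rcases h36 with h | h
  swap
  · exact h
  exfalso
  obtain ⟨b, hbF, hba⟩ := Finset.exists_mem_ne (show 1 < (Fx σ).card by omega) a
  have hb := mem_Fx.1 hbF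
  have hex : ∀ p : GolayPt, ∃ O : Finset GolayPt, σ p ≠ p → O ∈ octads ∧ ({a, b, p, σ p, σ (σ p)} : Finset GolayPt) ⊆ O := by
    intro p
    by_cases hp : σ p = p
    · exact ⟨∅, fun h => absurd hp h⟩
    · obtain ⟨O, hO, -⟩ := S0363.result.2 _ (five_points h3 hba.symm ha hb hp)
      exact ⟨O, fun _ => hO⟩
  choose O hO using hex
  have hinv : ∀ p, σ p ≠ p → ∀ q ∈ O p, σ q ∈ O p := by
    intro p hp
    obtain ⟨h1, h2⟩ := hO p hp
    refine inv_of_five hσ h1 h2 (by rw [five_points h3 hba.symm ha hb hp]) fun z hz => ?_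
    simp only [Finset.mem_insert, Finset.mem_singleton] at hz
    apply h2
    simp only [Finset.mem_insert, Finset.mem_singleton]
    rcases hz with rfl | rfl | rfl | rfl | rfl
    · exact Or.inl ha
    · exact Or.inr (Or.inl hb)
    · exact Or.inr (Or.inr (Or.inr (Or.inl rfl)))
    · exact Or.inr (Or.inr (Or.inr (Or.inr rfl)))
    · exact Or.inr (Or.inr (Or.inl (h3 _)))
  have hsix : ∀ p, σ p ≠ p → (O p \ Fx σ).card = 6 := by
    intro p hp
    obtain ⟨h1, h2⟩ := hO p hp
    have h8 : (O p).card = 8 := h1.2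
    have h4 := card_mod h3 (hinv p hp)
    have h5 : 2 ≤ (O p ∩ Fx σ).card := by
      have h6 : ({a, b} : Finset GolayPt) ⊆ O p ∩ Fx σ := by
        intro z hz
        simp only [Finset.mem_insert, Finset.mem_singleton] at hz
        rw [Finset.mem_inter]
        rcases hz with rfl | rfl
        · exact ⟨h2 (by simp), mem_Fx.2 ha⟩
        · exact ⟨h2 (by simp), mem_Fx.2 hb⟩
      have h7 := Finset.card_le_card h6
      rw [Finset.card_pair hba.symm] at h7
      exact h7
    have h6 : (O p ∩ Fx σ).card ≤ 3 := by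
      rw [← h]
      exact Finset.card_le_card Finset.inter_subset_right
    have h7 := Finset.card_sdiff_add_card_inter (O p) (Fx σ)
    unfold Nat.ModEq at h4
    omega
  have huniq : ∀ p q, σ p ≠ p → σ q ≠ q → q ∈ O p → O q = O p := by
    intro p q hp hq hqp
    obtain ⟨h1, h2⟩ := hO p hp
    obtain ⟨h4, h5⟩ := hO q hq
    obtain ⟨X, -, hX⟩ := S0363.result.2 _ (five_points h3 hba.symm ha hb hq)
    rw [hX _ ⟨h4, h5⟩]
    symm
    apply hX
    refine ⟨h1, fun z hz => ?_⟩
    simp only [Finset.mem_insert, Finset.mem_singleton] at hz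
    rcases hz with rfl | rfl | rfl | rfl | rfl
    · exact h2 (by simp)
    · exact h2 (by simp)
    · exact hqp
    · exact hinv p hp _ hqp
    · exact hinv p hp _ (hinv p hp _ hqp)
  let X : Finset GolayPt := (Fx σ)ᶜ
  have hXmem : ∀ p, p ∈ X ↔ σ p ≠ p := fun p => by
    rw [Finset.mem_compl, mem_Fx]
  have hX : X.card = 21 := by
    rw [Finset.card_compl, h]
    rfl
  have hcount := Finset.card_eq_sum_card_image O X
  have hfib : ∀ o ∈ X.image O, (X.filter fun p => O p = o).card = 6 := by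
    intro o ho
    obtain ⟨p, hp, rfl⟩ := Finset.mem_image.1 ho
    rw [hXmem] at hp
    rw [← hsix p hp]
    congr 1
    ext q
    rw [Finset.mem_filter, hXmem, Finset.mem_sdiff, mem_Fx]
    constructor
    · rintro ⟨hq, hqp⟩
      refine ⟨?_, hq⟩
      rw [← hqp]
      exact (hO q hq).2 (by simp)
    · rintro ⟨hqp, hq⟩
      exact ⟨hq, huniq p q hp hq hqp⟩
  rw [Finset.sum_congr rfl hfib, hX, Finset.sum_const, smul_eq_mul] at hcount
  omega


end

/-- The bound for the number of fixed points. -/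
def fb : ℕ → ℕ
  | 2 => 8
  | 3 => 6
  | 5 => 4
  | 7 => 3
  | 11 => 2
  | _ => 1

theorem fix_mod {x : Equiv.Perm GolayPt} {p : ℕ} (hp : p.Prime) (hx : orderOf x = p) :
    24 ≡ (Fx x).card [MOD p] := by
  classical
  have := Fact.mk hp
  let f : Function.End GolayPt := fun w => x w
  have h0 : ∀ n : ℕ, ∀ w, (f ^ n) w = (x ^ n) w := by
    intro n
    induction n with
    | zero => intro w; rfl
    | succ n ih =>
      intro w
      rw [pow_succ, pow_succ]
      exact ih (x w)
  have h1 : f ^ p ^ 1 = 1 := by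
    funext w
    rw [h0, pow_one, ← hx, pow_orderOf_eq_one]
    rfl
  have h2 := Equiv.Perm.card_fixedPoints_modEq (p := p) (n := 1) h1
  have h3 : Fintype.card (Function.fixedPoints f) = (Fx x).card := by
    rw [← Fintype.card_coe (Fx x)]
    refine Fintype.card_congr ⟨fun w => ⟨w, mem_Fx.2 w.2⟩, fun w => ⟨w, mem_Fx.1 w.2⟩, fun w => rfl,
      fun w => rfl⟩
  rw [h3, show Fintype.card GolayPt = 24 from rfl] at h2
  exact h2

theorem prime_cases {p : ℕ} (hp : p.Prime) (hd : p ∣ 10200960) :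
    p = 2 ∨ p = 3 ∨ p = 5 ∨ p = 7 ∨ p = 11 ∨ p = 23 := by
  have h : p ∣ 2 ^ 7 * (3 ^ 2 * (5 * (7 * (11 * 23)))) := by
    norm_num
    exact hd
  rcases (Nat.Prime.dvd_mul hp).1 h with h | h
  · exact Or.inl ((Nat.prime_dvd_prime_iff_eq hp (by norm_num)).1 (hp.dvd_of_dvd_pow h))
  rcases (Nat.Prime.dvd_mul hp).1 h with h | h
  · exact Or.inr (Or.inl ((Nat.prime_dvd_prime_iff_eq hp (by norm_num)).1 (hp.dvd_of_dvd_pow h)))
  rcases (Nat.Prime.dvd_mul hp).1 h with h | h
  · exact Or.inr (Or.inr (Or.inl ((Nat.prime_dvd_prime_iff_eq hp (by norm_num)).1 h)))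
  rcases (Nat.Prime.dvd_mul hp).1 h with h | h
  · exact Or.inr (Or.inr (Or.inr (Or.inl ((Nat.prime_dvd_prime_iff_eq hp (by norm_num)).1 h))))
  rcases (Nat.Prime.dvd_mul hp).1 h with h | h
  · exact Or.inr (Or.inr (Or.inr (Or.inr (Or.inl ((Nat.prime_dvd_prime_iff_eq hp (by norm_num)).1 h)))))
  · exact Or.inr (Or.inr (Or.inr (Or.inr (Or.inr ((Nat.prime_dvd_prime_iff_eq hp (by norm_num)).1 h)))))

/-- **The number of fixed points of an element of prime order.** -/
theorem fix_le {x : Equiv.Perm GolayPt} (hM : x ∈ M24) (h0 : x none = none) {p : ℕ} (hp : p.Prime)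
    (hx : orderOf x = p) (hd : p ∣ 10200960) : fb p ≤ (Fx x).card := by
  have hmod := fix_mod hp hx
  have hpos : 0 < (Fx x).card := Finset.card_pos.2 ⟨none, mem_Fx.2 h0⟩
  have hpp : x ^ p = 1 := by rw [← hx, pow_orderOf_eq_one]
  have hne : x ≠ 1 := by
    rintro rfl
    rw [orderOf_one] at hx
    exact hp.one_lt.ne hx
  rcases prime_cases hp hd with rfl | rfl | rfl | rfl | rfl | rfl
  · have h1 := Cfsg.Agent.J4Type.FusionM22.card_fix hM (by rw [← sq]; exact hpp) hne h0
    exact h1.ge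
  · refine six_le (fun w => ?_) hM h0
    have h1 := Equiv.congr_fun hpp w
    rw [pow_succ, pow_succ, pow_one] at h1
    exact h1
  · show 4 ≤ _
    unfold Nat.ModEq at hmod
    omega
  · show 3 ≤ _
    unfold Nat.ModEq at hmod
    omega
  · show 2 ≤ _
    unfold Nat.ModEq at hmod
    omega
  · exact hpos

end Cfsg.Agent.H565.Fix
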